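import Groth.Agent.PurityLib.Sections
import Groth.Prelude.Def_FEt
import Mathlib.AlgebraicGeometry.Normalization
import Mathlib.AlgebraicGeometry.ZariskisMainTheorem
import Mathlib.AlgebraicGeometry.Noetherian
import Mathlib.AlgebraicGeometry.Stalk

/-!
# Extension of finite étale covers across codimension two
-/

set_option autoImplicit false
set_option linter.style.haveILetI false
set_option linter.unusedSectionVars false

universe u

open CategoryTheory CategoryTheory.Limits AlgebraicGeometry TopologicalSpace Opposite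
open scoped TensorProduct

namespace PurityLib

variable {X V : Scheme.{u}} {U : X.Opens} (h : V ⟶ (U : Scheme.{u})) [IsFinite h] [Etale h]

theorem app_ι_props {D : X.Opens} (hD : IsAffineOpen D) (hle : D ≤ U) :
    ((h ≫ U.ι).app D).hom.Finite ∧ ((h ≫ U.ι).app D).hom.Etale := by
  have hA : IsAffineOpen (U.ι ⁻¹ᵁ D) := hD.preimage_of_isOpenImmersion U.ι (by
    rw [Scheme.Opens.opensRange_ι]; exact hle)
  haveI : IsIso (U.ι.app D) := Scheme.Hom.isIso_app _ _ (by rw [Scheme.Opens.opensRange_ι]; exact hle)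
  have h1 : (h.app (U.ι ⁻¹ᵁ D)).hom.Finite := h.finite_app _ hA
  have h2 : (h.app (U.ι ⁻¹ᵁ D)).hom.Etale := by
    have := HasRingHomProperty.appLE @Etale h inferInstance ⟨_, hA⟩ ⟨_, hA.preimage h⟩ le_rfl
    rwa [← Scheme.Hom.app_eq_appLE] at this
  show ((h.app (U.ι ⁻¹ᵁ D)).hom.comp (U.ι.app D).hom).Finite ∧ ((h.app (U.ι ⁻¹ᵁ D)).hom.comp (U.ι.app D).hom).Etale
  exact ⟨RingHom.finite_respectsIso.2 _ (asIso (U.ι.app D)).commRingCatIsoToRingEquiv h1,
    RingHom.Etale.respectsIso.2 _ (asIso (U.ι.app D)).commRingCatIsoToRingEquiv h2⟩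

theorem sections_finite_etale [IsLocallyNoetherian X] [QuasiCompact U.ι] {W : X.Opens} (hW : IsAffineOpen W)
    [IsDomain Γ(X, W)] (hreg : ∀ x : X, IsRegularLocalRing (X.presheaf.stalk x))
    (hU : ∀ x : X, x ∉ U → (2 : WithBot ℕ∞) ≤ ringKrullDim (X.presheaf.stalk x)) :
    ((h ≫ U.ι).app W).hom.Finite ∧ ((h ≫ U.ι).app W).hom.Etale := by
  classical
  let g := h ≫ U.ι
  haveI : IsNoetherianRing Γ(X, W) := IsLocallyNoetherian.component_noetherian ⟨W, hW⟩
  letI := (g.app W).hom.toAlgebra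
  let A := Γ(X, W)
  let G := Γ(V, g ⁻¹ᵁ W)
  haveI : IsAffine (W : Scheme.{u}) := hW
  -- finitely many basic opens cover the part of `W` inside `U`
  obtain ⟨t, ht⟩ : ∃ t : Set Γ(X, W), t.Finite ∧ (W ⊓ U : X.Opens) = ⨆ f ∈ t, X.basicOpen f := by
    have hc : IsCompact ((W : Set X) ∩ U) := by
      have := U.ι.isCompact_preimage hW.isCompact
      have h2 := this.image U.ι.continuous
      have e : U.ι '' ↑(U.ι ⁻¹ᵁ W) = (W : Set X) ∩ U := by
        ext z
        exact ⟨fun ⟨w, hw, hwz⟩ => hwz ▸ ⟨hw, w.2⟩, fun hz => ⟨⟨z, hz.2⟩, hz.1, rfl⟩⟩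
      rwa [e] at h2
    have hx : ∀ x ∈ (W : Set X) ∩ U, ∃ f : Γ(X, W), X.basicOpen f ≤ W ⊓ U ∧ x ∈ X.basicOpen f := fun x hx => by
      obtain ⟨f, hf, hxf⟩ := hW.exists_basicOpen_le (V := W ⊓ U) ⟨x, hx⟩ hx.1
      exact ⟨f, hf, hxf⟩
    choose f hf hxf using hx
    obtain ⟨b, hb⟩ := hc.elim_finite_subcover (fun x : ((W : Set X) ∩ U : Set X) => (X.basicOpen (f x x.2) : Set X))
      (fun _ => (X.basicOpen _).isOpen) fun x hx => Set.mem_iUnion.2 ⟨⟨x, hx⟩, hxf x hx⟩
    refine ⟨(fun x : ((W : Set X) ∩ U : Set X) => f x x.2) '' b, b.finite_toSet.image _, le_antisymm (fun x hx => ?_)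
      (iSup₂_le ?_)⟩
    · obtain ⟨z, hz, hxz⟩ := Set.mem_iUnion₂.1 (hb hx)
      exact Opens.mem_iSup.2 ⟨_, Opens.mem_iSup.2 ⟨⟨z, hz, rfl⟩, hxz⟩⟩
    · rintro _ ⟨z, -, rfl⟩
      exact hf z z.2
  obtain ⟨htf, hcov⟩ := ht
  haveI := htf.fintype
  let m := Fintype.card t
  let a : Fin m → A := fun i => ((Fintype.equivFin t).symm i).1
  have hle : ∀ i, X.basicOpen (a i) ≤ U := fun i => le_trans
    (le_trans (le_iSup₂ (f := fun f (_ : f ∈ t) => X.basicOpen f) _ ((Fintype.equivFin t).symm i).2) hcov.ge) inf_le_right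
  have hcov' : ∀ x, x ∈ W → x ∈ U → ∃ i, x ∈ X.basicOpen (a i) := fun x hxW hxU => by
    obtain ⟨f, hf⟩ := Opens.mem_iSup.1 (hcov.le ⟨hxW, hxU⟩)
    obtain ⟨hft, hxf⟩ := Opens.mem_iSup.1 hf
    exact ⟨Fintype.equivFin t ⟨f, hft⟩, by simpa [a] using hxf⟩
  have hWc : IsCompact ((g ⁻¹ᵁ W : V.Opens) : Set V) := g.isCompact_preimage hW.isCompact
  have hWq : IsQuasiSeparated ((g ⁻¹ᵁ W : V.Opens) : Set V) := g.isQuasiSeparated_preimage hW.isQuasiSeparated
  -- the localisations
  have hloc : ∀ i, Module.Finite (Localization.Away (a i)) (Localization.Away (a i) ⊗[A] G) ∧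
      Algebra.Etale (Localization.Away (a i)) (Localization.Away (a i) ⊗[A] G) := by
    intro i
    let D := X.basicOpen (a i)
    let Ai := Localization.Away (a i)
    let R := Ai ⊗[A] G
    letI : Algebra G R := Algebra.TensorProduct.rightAlgebra
    haveI : IsScalarTower A G R := IsScalarTower.of_algebraMap_eq fun x => by
      rw [RingHom.algebraMap_toAlgebra (Algebra.TensorProduct.includeRight : G →ₐ[A] R).toRingHom]
      exact (AlgHom.commutes (Algebra.TensorProduct.includeRight : G →ₐ[A] R) x).symm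
    haveI : IsLocalization (Algebra.algebraMapSubmonoid G (Submonoid.powers (a i))) R :=
      IsLocalization.tensorRight (R := A) (A := Ai) (S := G) _
    have e0 : Algebra.algebraMapSubmonoid G (Submonoid.powers (a i)) = Submonoid.powers ((g.app W).hom (a i)) :=
      Submonoid.map_powers _ _
    haveI : IsLocalization.Away ((g.app W).hom (a i)) R := by
      show IsLocalization (Submonoid.powers ((g.app W).hom (a i))) R
      rw [← e0]
      infer_instance
    haveI : IsLocalization.Away ((g.app W).hom (a i)) Γ(V, V.basicOpen ((g.app W).hom (a i))) :=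
      isLocalization_basicOpen_of_qcqs hWc hWq _
    haveI : IsLocalization.Away (a i) Γ(X, D) := hW.isLocalization_basicOpen (a i)
    let eA : Ai ≃ₐ[A] Γ(X, D) := IsLocalization.algEquiv (Submonoid.powers (a i)) _ _
    let eR : R ≃ₐ[G] Γ(V, V.basicOpen ((g.app W).hom (a i))) :=
      IsLocalization.algEquiv (Submonoid.powers ((g.app W).hom (a i))) _ _
    have heq : g ⁻¹ᵁ D = V.basicOpen ((g.app W).hom (a i)) := g.preimage_basicOpen (a i)
    let rD := g.appLE D (V.basicOpen ((g.app W).hom (a i))) heq.ge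
    have hprops : rD.hom.Finite ∧ rD.hom.Etale := by
      obtain ⟨p1, p2⟩ := app_ι_props h (hW.basicOpen (a i)) (hle i)
      have hr : rD = g.app D ≫ V.presheaf.map (eqToHom heq.symm).op := by
        simp only [rD, Scheme.Hom.appLE]
        rfl
      rw [hr, CommRingCat.hom_comp]
      exact ⟨RingHom.finite_respectsIso.1 _
          (asIso (V.presheaf.map (eqToHom heq.symm).op)).commRingCatIsoToRingEquiv p1,
        RingHom.Etale.respectsIso.1 _
          (asIso (V.presheaf.map (eqToHom heq.symm).op)).commRingCatIsoToRingEquiv p2⟩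
    have key : algebraMap Ai R = (eR.symm.toRingEquiv.toRingHom.comp rD.hom).comp eA.toRingEquiv.toRingHom := by
      refine IsLocalization.ringHom_ext (Submonoid.powers (a i)) (RingHom.ext fun x => ?_)
      show algebraMap Ai R (algebraMap A Ai x) = eR.symm (rD.hom (eA (algebraMap A Ai x)))
      rw [AlgEquiv.commutes, ← IsScalarTower.algebraMap_apply A Ai R, IsScalarTower.algebraMap_apply A G R]
      have h3 : rD.hom (algebraMap A Γ(X, D) x) =
          algebraMap G Γ(V, V.basicOpen ((g.app W).hom (a i))) (algebraMap A G x) := by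
        show (X.presheaf.map (homOfLE (X.basicOpen_le (a i))).op ≫ rD).hom x =
          (g.app W ≫ V.presheaf.map (homOfLE (V.basicOpen_le _)).op).hom x
        rw [Scheme.Hom.map_appLE]
        rfl
      rw [h3, AlgEquiv.commutes]
    have hf : (algebraMap Ai R).Finite ∧ (algebraMap Ai R).Etale := by
      rw [key]
      exact ⟨RingHom.finite_respectsIso.2 _ eA.toRingEquiv
          (RingHom.finite_respectsIso.1 _ eR.symm.toRingEquiv hprops.1),
        RingHom.Etale.respectsIso.2 _ eA.toRingEquiv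
          (RingHom.Etale.respectsIso.1 _ eR.symm.toRingEquiv hprops.2)⟩
    exact ⟨RingHom.finite_algebraMap.1 hf.1, RingHom.etale_algebraMap.1 hf.2⟩
  have hVcov : ∀ v ∈ g ⁻¹ᵁ W, ∃ i, v ∈ V.basicOpen ((g.app W).hom (a i)) := fun v hv => by
    obtain ⟨i, hi⟩ := hcov' (g v) hv (h v).2
    exact ⟨i, g.preimage_basicOpen (a i) ▸ hi⟩
  have hsmul : ∀ (r : A) (s : G), r • s = (g.app W).hom r * s := fun r s => rfl
  have hzero : ∀ s : G, (∀ i, ∃ n : ℕ, a i ^ n • s = 0) → s = 0 := by
    intro s hs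
    refine TopCat.Sheaf.eq_of_locally_eq' V.sheaf (fun i => V.basicOpen ((g.app W).hom (a i))) (g ⁻¹ᵁ W)
      (fun i => homOfLE (V.basicOpen_le _)) (fun v hv => ?_) s 0 fun i => ?_
    · obtain ⟨i, hi⟩ := hVcov v hv
      exact Opens.mem_iSup.2 ⟨i, hi⟩
    · haveI : IsLocalization.Away ((g.app W).hom (a i)) Γ(V, V.basicOpen ((g.app W).hom (a i))) :=
        isLocalization_basicOpen_of_qcqs hWc hWq _
      obtain ⟨n, hn⟩ := hs i
      rw [map_zero]
      refine (IsLocalization.map_eq_zero_iff (Submonoid.powers ((g.app W).hom (a i)))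
        Γ(V, V.basicOpen ((g.app W).hom (a i))) s).2 ⟨⟨_, n, rfl⟩, ?_⟩
      rw [hsmul, map_pow] at hn
      exact hn
  have hglue : ∀ (n : Fin m → ℕ) (r : Fin m → G), (∀ i j, a j ^ n j • r i = a i ^ n i • r j) →
      ∃ s, ∀ i, a i ^ n i • s = r i := by
    intro n r hr
    have hu : ∀ i, IsUnit (algebraMap G Γ(V, V.basicOpen ((g.app W).hom (a i))) ((g.app W).hom (a i) ^ n i)) := fun i => by
      haveI : IsLocalization.Away ((g.app W).hom (a i)) Γ(V, V.basicOpen ((g.app W).hom (a i))) :=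
        isLocalization_basicOpen_of_qcqs hWc hWq _
      rw [map_pow]
      exact (IsLocalization.Away.algebraMap_isUnit _).pow _
    let x : ∀ i, Γ(V, V.basicOpen ((g.app W).hom (a i))) := fun i =>
      algebraMap G _ (r i) * ↑(hu i).unit⁻¹
    have hx : ∀ i, algebraMap G Γ(V, V.basicOpen ((g.app W).hom (a i))) ((g.app W).hom (a i) ^ n i) * x i =
        algebraMap G _ (r i) := fun i => by
      simp only [x]
      rw [mul_left_comm, IsUnit.mul_val_inv, mul_one]
    have hcompat : TopCat.Presheaf.IsCompatible V.presheaf (fun i => V.basicOpen ((g.app W).hom (a i))) x := by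
      intro i j
      let O := V.basicOpen ((g.app W).hom (a i)) ⊓ V.basicOpen ((g.app W).hom (a j))
      let ρ : G →+* Γ(V, O) := (V.presheaf.map (homOfLE (inf_le_left.trans (V.basicOpen_le _) : O ≤ g ⁻¹ᵁ W)).op).hom
      let ρi := (V.presheaf.map (homOfLE (inf_le_left : O ≤ _)).op).hom
      let ρj := (V.presheaf.map (homOfLE (inf_le_right : O ≤ _)).op).hom
      have hρi : ∀ y, ρi (algebraMap G _ y) = ρ y := fun y => by
        show (V.presheaf.map (homOfLE (V.basicOpen_le _)).op ≫ V.presheaf.map _).hom y = _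
        rw [← Functor.map_comp]
        rfl
      have hρj : ∀ y, ρj (algebraMap G _ y) = ρ y := fun y => by
        show (V.presheaf.map (homOfLE (V.basicOpen_le _)).op ≫ V.presheaf.map _).hom y = _
        rw [← Functor.map_comp]
        rfl
      show ρi (x i) = ρj (x j)
      have h1 := congrArg ρi (hx i)
      have h2 := congrArg ρj (hx j)
      rw [map_mul, hρi, hρi] at h1
      rw [map_mul, hρj, hρj] at h2
      have u1 : IsUnit (ρ ((g.app W).hom (a i) ^ n i)) := hρi _ ▸ (hu i).map ρi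
      have u2 : IsUnit (ρ ((g.app W).hom (a j) ^ n j)) := hρj _ ▸ (hu j).map ρj
      have h3 := congrArg ρ (hr i j)
      rw [hsmul, hsmul, map_pow, map_pow, map_mul, map_mul] at h3
      apply (u1.mul u2).mul_right_injective
      show _ * ρi (x i) = _ * ρj (x j)
      rw [mul_right_comm, h1, mul_assoc, h2, mul_comm, h3]
    obtain ⟨s, hs, -⟩ := TopCat.Sheaf.existsUnique_gluing' V.sheaf (fun i => V.basicOpen ((g.app W).hom (a i)))
      (g ⁻¹ᵁ W) (fun i => homOfLE (V.basicOpen_le _))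
      (fun v hv => by obtain ⟨i, hi⟩ := hVcov v hv; exact Opens.mem_iSup.2 ⟨i, hi⟩) x hcompat
    let s' : G := s
    refine ⟨s', fun i => sub_eq_zero.1 (hzero _ fun j => ?_)⟩
    haveI : IsLocalization.Away ((g.app W).hom (a j)) Γ(V, V.basicOpen ((g.app W).hom (a j))) :=
      isLocalization_basicOpen_of_qcqs hWc hWq _
    have hsj : algebraMap G Γ(V, V.basicOpen ((g.app W).hom (a j))) s' = x j := hs j
    have h1 : algebraMap G Γ(V, V.basicOpen ((g.app W).hom (a j))) (a j ^ n j • (a i ^ n i • s' - r i)) = 0 := by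
      rw [smul_sub, hr i j, smul_comm, ← smul_sub, hsmul, hsmul, map_mul, map_sub, map_mul, hsj,
        map_pow (g.app W).hom (a j), hx j, sub_self, mul_zero]
    obtain ⟨⟨w, k, rfl⟩, hk⟩ := (IsLocalization.map_eq_zero_iff (Submonoid.powers ((g.app W).hom (a j)))
      Γ(V, V.basicOpen ((g.app W).hom (a j))) _).1 h1
    refine ⟨k + n j, ?_⟩
    rw [pow_add, mul_smul, hsmul, map_pow]
    exact hk
  have hprime : ∀ (p : Ideal A) [p.IsPrime], ∃ x : X, x ∈ W ∧ Nonempty (Localization.AtPrime p ≃+* X.presheaf.stalk x) ∧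
      ∀ f : A, x ∈ X.basicOpen f ↔ f ∉ p := by
    intro p _
    let y : PrimeSpectrum A := ⟨p, ‹_›⟩
    let x := hW.fromSpec y
    have hx : x ∈ W := by
      show x ∈ (W : Set X)
      rw [← hW.range_fromSpec]
      exact ⟨y, rfl⟩
    letI := TopCat.Presheaf.algebra_section_stalk X.presheaf (⟨x, hx⟩ : W)
    haveI : IsLocalization.AtPrime (X.presheaf.stalk x) p := hW.isLocalization_stalk' y hx
    refine ⟨x, hx, ⟨(IsLocalization.algEquiv p.primeCompl (Localization.AtPrime p) (X.presheaf.stalk x)).toRingEquiv⟩,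
      fun f => ?_⟩
    show y ∈ hW.fromSpec ⁻¹ᵁ X.basicOpen f ↔ _
    rw [hW.fromSpec_preimage_basicOpen]
    rfl
  have hregA : ∀ (p : Ideal A) [p.IsPrime], IsRegularLocalRing (Localization.AtPrime p) := fun p _ => by
    obtain ⟨x, -, ⟨e⟩, -⟩ := hprime p
    haveI := hreg x
    exact IsRegularLocalRing.of_ringEquiv e.symm
  have hht : ∀ (p : Ideal A) [p.IsPrime], p.height ≤ 1 → ∃ i, a i ∉ p := fun p _ hp => by
    obtain ⟨x, hxW, ⟨e⟩, hx⟩ := hprime p
    have hxU : x ∈ U := by
      by_contra hxU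
      have h2 := hU x hxU
      rw [← ringKrullDim_eq_of_ringEquiv e, IsLocalization.AtPrime.ringKrullDim_eq_height p (Localization.AtPrime p)] at h2
      exact absurd ((WithBot.coe_le_coe.1 h2).trans hp) (by norm_num)
    obtain ⟨i, hi⟩ := hcov' x hxW hxU
    exact ⟨i, (hx _).1 hi⟩
  obtain ⟨hf, he⟩ := finite_etale_sections (A := A) (G := G) a hregA hht
    (fun i => (hloc i).1) (fun i => (hloc i).2) hzero hglue
  exact ⟨hf, RingHom.etale_algebraMap.2 he⟩

end PurityLib

namespace PurityLib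

variable {X : Scheme.{u}}

theorem exists_affine_domain [IsLocallyNoetherian X] (hreg : ∀ x : X, IsRegularLocalRing (X.presheaf.stalk x)) (x : X) :
    ∃ W : X.Opens, IsAffineOpen W ∧ x ∈ W ∧ IsDomain Γ(X, W) := by
  classical
  obtain ⟨_, ⟨W₀, hW₀, rfl⟩, hx, -⟩ := X.isBasis_affineOpens.exists_subset_of_mem_open (Set.mem_univ x) isOpen_univ
  haveI : IsNoetherianRing Γ(X, W₀) := IsLocallyNoetherian.component_noetherian ⟨W₀, hW₀⟩
  letI := TopCat.Presheaf.algebra_section_stalk X.presheaf (⟨x, hx⟩ : (W₀ : X.Opens))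
  let p := (hW₀.primeIdealOf ⟨x, hx⟩).asIdeal
  haveI : IsLocalization.AtPrime (X.presheaf.stalk x) p := hW₀.isLocalization_stalk ⟨x, hx⟩
  haveI := hreg x
  haveI := CommAlgDim.isDomain_of_isRegularLocalRing (X.presheaf.stalk x)
  let q := RingHom.ker (algebraMap Γ(X, W₀) (X.presheaf.stalk x))
  obtain ⟨S, hS⟩ := (IsNoetherian.noetherian q : Submodule.FG q)
  have hk : ∀ s ∈ S, ∃ t : Γ(X, W₀), t ∉ p ∧ t * s = 0 := fun s hs => by
    obtain ⟨⟨t, ht⟩, h⟩ := (IsLocalization.map_eq_zero_iff p.primeCompl (X.presheaf.stalk x) s).1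
      (hS ▸ Submodule.subset_span hs : s ∈ q)
    exact ⟨t, ht, h⟩
  choose t ht htz using hk
  let f := ∏ s : S, t s.1 s.2
  have hf : f ∉ p := fun hmem => by
    obtain ⟨s, -, hs⟩ := (Ideal.IsPrime.prod_mem_iff).1 hmem
    exact ht s.1 s.2 hs
  have hfq : ∀ a ∈ q, f * a = 0 := by
    intro a ha
    rw [← hS] at ha
    induction ha using Submodule.span_induction with
    | mem a ha =>
      have hd : t a ha ∣ f := Finset.dvd_prod_of_mem (fun s : S => t s.1 s.2) (Finset.mem_univ ⟨a, ha⟩)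
      obtain ⟨c, hc⟩ := hd
      rw [hc, mul_right_comm, htz a ha, zero_mul]
    | zero => rw [mul_zero]
    | add a b _ _ ha hb => rw [mul_add, ha, hb, add_zero]
    | smul r a _ ha => rw [smul_eq_mul, mul_left_comm, ha, mul_zero]
  refine ⟨X.basicOpen f, hW₀.basicOpen f, ?_, ?_⟩
  · rw [X.mem_basicOpen f x hx]
    exact IsLocalization.map_units (X.presheaf.stalk x) (⟨f, hf⟩ : p.primeCompl)
  haveI : IsLocalization.Away f Γ(X, X.basicOpen f) := hW₀.isLocalization_basicOpen f
  have hfu : IsUnit (algebraMap Γ(X, W₀) (X.presheaf.stalk x) f) :=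
    IsLocalization.map_units (X.presheaf.stalk x) (⟨f, hf⟩ : p.primeCompl)
  let ρ : Γ(X, X.basicOpen f) →+* X.presheaf.stalk x := IsLocalization.Away.lift f
    (g := algebraMap Γ(X, W₀) (X.presheaf.stalk x)) hfu
  refine Function.Injective.isDomain ρ ((injective_iff_map_eq_zero ρ).2 fun z hz => ?_)
  obtain ⟨n, a, ha⟩ := IsLocalization.Away.surj f z
  have h1 : algebraMap Γ(X, W₀) (X.presheaf.stalk x) a = 0 := by
    rw [← IsLocalization.Away.lift_eq (S := Γ(X, X.basicOpen f)) f hfu a, ← ha, map_mul, hz, zero_mul]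
  have h2 : algebraMap Γ(X, W₀) Γ(X, X.basicOpen f) a = 0 :=
    (IsLocalization.map_eq_zero_iff (Submonoid.powers f) _ a).2 ⟨⟨f, 1, pow_one f⟩, hfq a h1⟩
  rw [h2] at ha
  exact ((IsLocalization.Away.algebraMap_isUnit f).pow n).mul_left_eq_zero.1 ha

/-- Restriction of finite étale covers across a codimension two set is essentially surjective. -/
theorem essSurj_restrict [IsLocallyNoetherian X] (hreg : ∀ x : X, IsRegularLocalRing (X.presheaf.stalk x))
    (U : X.Opens) (hU : ∀ x : X, x ∉ U → (2 : WithBot ℕ∞) ≤ ringKrullDim (X.presheaf.stalk x)) :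
    (FEt.restrict U.ι).EssSurj := by
  classical
  refine ⟨fun Y => ?_⟩
  haveI : IsFinite Y.hom := Y.prop.1
  haveI : Etale Y.hom := Y.prop.2
  let g := Y.hom ≫ U.ι
  let π := g.fromNormalization
  let t := g.toNormalization
  have htπ : t ≫ π = g := g.toNormalization_fromNormalization
  have hle : (⊤ : Scheme.Opens Y.left) ≤ t ⁻¹ᵁ (π ⁻¹ᵁ U) := fun v _ => by
    show (t ≫ π) v ∈ U
    rw [htπ]
    exact (Y.hom v).2
  let N : g.normalization.Opens := π ⁻¹ᵁ U
  let t' : Y.left ⟶ (N : Scheme.{u}) := IsOpenImmersion.lift N.ι t (by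
    rintro _ ⟨v, rfl⟩
    rw [Scheme.Opens.range_ι]
    exact hle (Opens.mem_top v))
  have ht' : t' ≫ N.ι = t := IsOpenImmersion.lift_fac _ _ _
  have hcomp : t' ≫ π ∣_ U = Y.hom := by
    rw [← cancel_mono U.ι, Category.assoc, morphismRestrict_ι, reassoc_of% ht', htπ]
  haveI : IsOpenImmersion t' := by
    haveI : IsOpenImmersion (t' ≫ N.ι) := ht' ▸ inferInstance
    exact IsOpenImmersion.of_comp t' N.ι
  haveI : IsProper t' := by
    haveI : IsProper (t' ≫ π ∣_ U) := by rw [hcomp]; infer_instance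
    exact IsProper.of_comp t' (π ∣_ U)
  haveI : Surjective t' := by
    refine ⟨fun w => ?_⟩
    have hcl : IsClosed (Set.range t') := t'.isClosedMap.isClosed_range
    have hd : DenseRange t' := by
      rw [DenseRange, dense_iff_inter_open]
      intro O hO hne
      have hO' : IsOpen (N.ι '' O) := N.ι.isOpenEmbedding.isOpenMap O hO
      obtain ⟨_, ⟨o, ho, rfl⟩, v, hv⟩ := (t.denseRange).inter_open_nonempty (N.ι '' O) hO' (hne.image _)
      refine ⟨o, ho, v, N.ι.isOpenEmbedding.injective ?_⟩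
      rw [← Scheme.Hom.comp_apply, ht', hv]
    have : Set.range t' = Set.univ := by rw [← hcl.closure_eq, hd.closure_range]
    exact this.ge (Set.mem_univ w)
  haveI : IsIso t' := (isIso_iff_isOpenImmersion_and_surjective _).2 ⟨inferInstance, inferInstance⟩
  choose W hW hxW hdom using exists_affine_domain hreg
  have hsup : (⨆ x, W x) = ⊤ := eq_top_iff.2 fun x _ => Opens.mem_iSup.2 ⟨x, hxW x⟩
  have hπ : ∀ x, IsFinite (π ∣_ W x) ∧ Etale (π ∣_ W x) := by
    intro x
    haveI := hdom x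
    haveI : IsAffine (W x : Scheme.{u}) := hW x
    haveI : IsAffine (π ⁻¹ᵁ W x : Scheme.{u}) := (hW x).preimage π
    obtain ⟨hf, he⟩ := sections_finite_etale Y.hom (hW x) hreg hU
    letI : Algebra Γ(X, W x) Γ(Y.left, g ⁻¹ᵁ W x) := (g.app (W x)).hom.toAlgebra
    haveI : Module.Finite Γ(X, W x) Γ(Y.left, g ⁻¹ᵁ W x) := RingHom.finite_algebraMap.1 hf
    haveI : Algebra.Etale Γ(X, W x) Γ(Y.left, g ⁻¹ᵁ W x) := RingHom.etale_algebraMap.1 he
    have htop : integralClosure Γ(X, W x) Γ(Y.left, g ⁻¹ᵁ W x) = ⊤ :=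
      eq_top_iff.2 fun z _ => IsIntegral.of_finite Γ(X, W x) z
    let e : integralClosure Γ(X, W x) Γ(Y.left, g ⁻¹ᵁ W x) ≃ₐ[Γ(X, W x)] Γ(Y.left, g ⁻¹ᵁ W x) :=
      (Subalgebra.equivOfEq _ _ htop).trans Subalgebra.topEquiv
    have hfin' : Module.Finite Γ(X, W x) (integralClosure Γ(X, W x) Γ(Y.left, g ⁻¹ᵁ W x)) :=
      Module.Finite.equiv e.symm.toLinearEquiv
    have het' : Algebra.Etale Γ(X, W x) (integralClosure Γ(X, W x) Γ(Y.left, g ⁻¹ᵁ W x)) := Algebra.Etale.of_equiv e.symm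
    have happ : (π.app (W x)).hom.Finite ∧ (π.app (W x)).hom.Etale := by
      rw [g.fromNormalization_app (hW x)]
      exact ⟨RingHom.finite_respectsIso.1 _ (g.normalizationObjIso (hW x)).symm.commRingCatIsoToRingEquiv
          (RingHom.finite_algebraMap.2 hfin'),
        RingHom.Etale.respectsIso.1 _ (g.normalizationObjIso (hW x)).symm.commRingCatIsoToRingEquiv
          (RingHom.etale_algebraMap.2 het')⟩
    have e := arrowResLEAppIso π (W x) (π ⁻¹ᵁ W x) le_rfl
    rw [Scheme.Hom.resLE_eq_morphismRestrict, ← Scheme.Hom.app_eq_appLE] at e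
    refine ⟨?_, ?_⟩
    · rw [HasAffineProperty.iff_of_isAffine (P := @IsFinite)]
      refine ⟨inferInstance, ?_⟩
      rw [RingHom.finite_respectsIso.arrow_mk_iso_iff e]
      exact happ.1
    · rw [HasRingHomProperty.iff_of_isAffine (P := @Etale),
        RingHom.Etale.respectsIso.arrow_mk_iso_iff e]
      exact happ.2
  haveI : IsFinite π := (IsZariskiLocalAtTarget.iff_of_iSup_eq_top (P := @IsFinite) _ hsup).2 fun x => (hπ x).1
  haveI : Etale π := (IsZariskiLocalAtTarget.iff_of_iSup_eq_top (P := @Etale) _ hsup).2 fun x => (hπ x).2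
  let Z : FEt.Cat X := MorphismProperty.Over.mk ⊤ π ⟨inferInstance, inferInstance⟩
  refine ⟨Z, ⟨MorphismProperty.Over.isoMk ((pullbackRestrictIsoRestrict π U) ≪≫ (asIso t').symm) ?_⟩⟩
  show ((pullbackRestrictIsoRestrict π U).hom ≫ inv t') ≫ Y.hom = pullback.snd π U.ι
  have h2 : inv t' ≫ Y.hom = π ∣_ U := (IsIso.inv_comp_eq _).2 hcomp.symm
  rw [Category.assoc, h2, pullbackRestrictIsoRestrict_hom_morphismRestrict]

end PurityLib
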