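import Groth.Agent.PurityLib.Hull
import Groth.Agent.RegUFDLib.Basic
import Groth.Agent.RegFlatLib.Basic
import Groth.Agent.RefHullLib.Generic
import Groth.Agent.GonfLib.Residue
import Groth.Agent.CohenLib.FlatUnramified
import Groth.Agent.HenselLib.Criteria
import Mathlib.RingTheory.Etale.Field
import Mathlib.FieldTheory.IsSepClosed

/-!
# Auxiliary facts for purity
-/

set_option autoImplicit false
set_option linter.style.haveILetI false
set_option linter.unusedSectionVars false

universe u

open scoped TensorProduct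
open IsLocalRing

namespace PurityLib

theorem ufd_of_regular (A : Type u) [CommRing A] [IsRegularLocalRing A] : UniqueFactorizationMonoid A :=
  RegUFDLib.ufd_aux _ A le_rfl

/-- A reflexive module over a regular local ring of dimension at most two is free. -/
theorem free_of_reflexive_dim_le_two (A : Type u) [CommRing A] [IsRegularLocalRing A]
    (hd : (maximalIdeal A).spanFinrank ≤ 2) (M : Type u) [AddCommGroup M] [Module A M] [Module.Finite A M]
    [Module.IsReflexive A M] : Module.Free A M := by
  haveI : IsDomain A := CommAlgDim.isDomain_of_isRegularLocalRing A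
  haveI : IsIntegrallyClosed A := NormalLib.isIntegrallyClosed_of_isRegularLocalRing A
  have hreg := (isRegularLocalRing_iff A).1 inferInstance
  obtain ⟨n, m, f, h, hf, hex⟩ := DepthTwoLib.exists_presentation (A := A) M
  generalize hd' : (maximalIdeal A).spanFinrank = d at hd
  refine RegFlatLib.free_of_hasSeqIn d A hd' M ?_
  rcases d with _ | _ | _ | d
  · exact ⟨[], rfl, fun r hr => by simp at hr, RingTheory.Sequence.IsWeaklyRegular.nil A M⟩
  · refine (CommAlgDim.le_idealDepth_iff (I := maximalIdeal A) (M := M) 1).1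
      (DepthTwoLib.one_le_iff.2 fun x hx => ?_)
    obtain ⟨j, hj, hj0⟩ := Submodule.exists_mem_ne_zero_of_ne_bot (p := maximalIdeal A)
      (fun h0 => by rw [h0, Submodule.spanFinrank_bot] at hd'; omega)
    have h1 : f (j • x) = 0 := by rw [hx j hj, map_zero]
    rw [map_smul, smul_eq_zero] at h1
    exact hf ((h1.resolve_left hj0).trans (map_zero f).symm)
  · have hdim : (2 : WithBot ℕ∞) ≤ ringKrullDim A := by rw [← hreg, hd']; rfl
    have hA := DepthTwoLib.two_le_iff.1 (RefHullLib.two_le_depth_normal hdim)
    refine (CommAlgDim.le_idealDepth_iff (I := maximalIdeal A) (M := M) 2).1 (DepthTwoLib.two_le_iff.2 ?_)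
    exact DepthTwoLib.D2.left f h hf hex (DepthTwoLib.D2.of_free hA _) (DepthTwoLib.T1.of_free hA.1 _)
  · omega

theorem isAdicComplete_span {A : Type u} [CommRing A] [IsLocalRing A] [IsNoetherianRing A]
    [IsAdicComplete (maximalIdeal A) A] {f : A} (hf : f ∈ maximalIdeal A) : IsAdicComplete (Ideal.span {f}) A := by
  let I := Ideal.span {f}
  have hle : I ≤ maximalIdeal A := (Ideal.span_singleton_le_iff_mem _).2 hf
  refine { haus' := fun x hx => IsHausdorff.haus' (I := maximalIdeal A) x fun n => ?_, prec' := fun g hg => ?_ }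
  · exact SModEq.mono (Submodule.smul_mono_left (Ideal.pow_right_mono hle n)) (hx n)
  obtain ⟨L, hL⟩ := IsPrecomplete.prec' (I := maximalIdeal A) g fun {m n} hmn =>
    SModEq.mono (Submodule.smul_mono_left (Ideal.pow_right_mono hle m)) (hg hmn)
  refine ⟨L, fun n => ?_⟩
  rw [SModEq.sub_mem, smul_eq_mul, Ideal.mul_top]
  by_cases htop : I ^ n = ⊤
  · rw [htop]; trivial
  have key : ∀ j, g n - L ∈ I ^ n ⊔ maximalIdeal A ^ j := by
    intro j
    have h1 := hg (le_max_left n j)
    have h2 := hL (max n j)
    rw [SModEq.sub_mem, smul_eq_mul, Ideal.mul_top] at h1 h2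
    have : g n - L = (g n - g (max n j)) + (g (max n j) - L) := by ring
    rw [this]
    exact Submodule.add_mem_sup h1 (Ideal.pow_le_pow_right (le_max_right n j) h2)
  haveI : Nontrivial (A ⧸ I ^ n) := Ideal.Quotient.nontrivial_iff.2 htop
  haveI : IsLocalRing (A ⧸ I ^ n) := IsLocalRing.of_surjective' _ Ideal.Quotient.mk_surjective
  have hbot : (⨅ j, maximalIdeal (A ⧸ I ^ n) ^ j) = ⊥ :=
    Ideal.iInf_pow_eq_bot_of_isLocalRing _ (maximalIdeal.isMaximal _).ne_top
  rw [← Ideal.Quotient.eq_zero_iff_mem, ← Ideal.mem_bot, ← hbot, Ideal.mem_iInf]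
  intro j
  obtain ⟨a, ha, b, hb, hab⟩ := Submodule.mem_sup.1 (key j)
  rw [← hab, map_add, Ideal.Quotient.eq_zero_iff_mem.2 ha, zero_add,
    ← IsLocalRing.map_maximalIdeal_of_surjective _ (Ideal.Quotient.mk_surjective (I := I ^ n)), ← Ideal.map_pow]
  exact Ideal.mem_map_of_mem _ hb

/-- Finite étale algebras over strictly henselian local rings are split. -/
theorem exists_split (R : Type u) [CommRing R] [HenselianLocalRing R] [IsSepClosed (ResidueField R)]
    (D : Type u) [CommRing D] [Algebra R D] [Module.Finite R D] [Algebra.Etale R D] :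
    ∃ (I : Type u) (_ : Fintype I) (Ψ : D →ₐ[R] (I → R)), Function.Bijective Ψ := by
  classical
  let k := ResidueField R
  obtain ⟨I, hI, Ai, _, _, e, hAi⟩ := (Algebra.Etale.iff_exists_algEquiv_prod k (k ⊗[R] D)).1 inferInstance
  haveI := Fintype.ofFinite I
  haveI : ∀ i, Module.Finite k (Ai i) := fun i => (hAi i).1
  haveI : ∀ i, Algebra.IsSeparable k (Ai i) := fun i => (hAi i).2
  let c : ∀ i, k ≃ₐ[k] Ai i := fun i => AlgEquiv.ofBijective (Algebra.ofId k (Ai i))
    (IsSepClosed.algebraMap_bijective k (Ai i))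
  let ee : k ⊗[R] D ≃ₐ[k] (I → k) := e.trans (AlgEquiv.piCongrRight fun i => (c i).symm)
  have hlift : ∀ i, ∃ τ : D →ₐ[R] R, ∀ d, residue R (τ d) = ee ((1 : k) ⊗ₜ[R] d) i := fun i => by
    obtain ⟨τ, hτ⟩ := HenselLib.etaleLifts_of_henselianRing (I := maximalIdeal R) D
      (((((Pi.evalAlgHom k (fun _ : I => k) i).comp ee.toAlgHom)).restrictScalars R).comp
        (Algebra.TensorProduct.includeRight : D →ₐ[R] k ⊗[R] D))
    exact ⟨τ, fun d => DFunLike.congr_fun hτ d⟩
  choose τ hτ using hlift
  let Ψ : D →ₐ[R] (I → R) := AlgHom.pi τ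
  haveI : Module.Free R D := Module.free_of_flat_of_isLocalRing
  have hsurj : Function.Surjective Ψ := by
    have h1 : LinearMap.range Ψ.toLinearMap ⊔ maximalIdeal R • ⊤ = ⊤ := by
      refine eq_top_iff.2 fun v _ => ?_
      obtain ⟨z, hz⟩ := ee.surjective fun i => residue R (v i)
      obtain ⟨d, rfl⟩ : ∃ d, (1 : k) ⊗ₜ[R] d = z := TensorProduct.mk_surjective R D k Ideal.Quotient.mk_surjective z
      rw [← add_sub_cancel (Ψ d) v]
      refine Submodule.add_mem_sup ⟨d, rfl⟩ ?_
      rw [pi_eq_sum_univ (v - Ψ d)]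
      refine Submodule.sum_mem _ fun i _ => Submodule.smul_mem_smul ?_ trivial
      rw [← residue_eq_zero_iff, Pi.sub_apply, map_sub]
      show residue R (v i) - residue R (τ i d) = 0
      rw [hτ, hz, sub_self]
    exact LinearMap.range_eq_top.1 (top_le_iff.1 (Submodule.le_of_le_smul_of_le_jacobson_bot Module.Finite.fg_top
      (jacobson_eq_maximalIdeal ⊥ bot_ne_top).ge h1.ge))
  have hr : Module.finrank R D = Module.finrank R (I → R) := by
    have h1 := ee.toLinearEquiv.finrank_eq
    rw [Module.finrank_baseChange, Module.finrank_fintype_fun_eq_card] at h1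
    rw [h1, Module.finrank_fintype_fun_eq_card]
  let eqv : (I → R) ≃ₗ[R] D := LinearEquiv.ofFinrankEq _ _ hr.symm
  have hinj := OrzechProperty.injective_of_surjective_endomorphism (eqv.toLinearMap ∘ₗ Ψ.toLinearMap)
    (eqv.surjective.comp hsurj)
  exact ⟨I, inferInstance, Ψ, fun a b hab => hinj (congrArg eqv hab), hsurj⟩

/-- A flat extension to a complete regular local ring with algebraically closed residue field. -/
theorem exists_closed_extension (A : Type u) [CommRing A] [IsRegularLocalRing A] :
    ∃ (R : Type u) (_ : CommRing R) (_ : IsRegularLocalRing R) (_ : Algebra A R),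
      IsAdicComplete (maximalIdeal R) R ∧ IsAlgClosed (ResidueField R) ∧ Module.FaithfullyFlat A R ∧
      (maximalIdeal A).map (algebraMap A R) = maximalIdeal R ∧
      (maximalIdeal R).spanFinrank = (maximalIdeal A).spanFinrank := by
  let K := AlgebraicClosure (ResidueField A)
  obtain ⟨G, _, _, _, _, hflat, hmap, hN, eK, -⟩ := GonfLib.exists_local_extension_residueField (A := A) K
  haveI : IsNoetherianRing G := hN inferInstance
  haveI := hflat
  obtain ⟨_, _, _, hm2, hres⟩ := CohenLib.completion_facts G (maximalIdeal G) (maximalIdeal.isMaximal G).ne_top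
  let R := AdicCompletion (maximalIdeal G) G
  have hdim : ringKrullDim R = ringKrullDim A :=
    (CohenLib.ringKrullDim_adicCompletion G _ (maximalIdeal.isMaximal G).ne_top).trans
      (CohenLib.ringKrullDim_eq_of_flat_unramified A G hmap)
  have hreg := (isRegularLocalRing_iff A).1 inferInstance
  have hmR : (maximalIdeal A).map (algebraMap A R) = maximalIdeal R := by
    rw [IsScalarTower.algebraMap_eq A G R, ← Ideal.map_map, hmap, hm2]
  have hle : (maximalIdeal R).spanFinrank ≤ (maximalIdeal A).spanFinrank := by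
    classical
    obtain ⟨s, hs, hspan⟩ := Submodule.FG.exists_span_finset_card_eq_spanFinrank
      (IsNoetherian.noetherian (maximalIdeal A))
    have hm' : maximalIdeal R = Ideal.span (↑(s.image (algebraMap A R)) : Set R) := by
      rw [← hmR, show maximalIdeal A = Ideal.span (↑s : Set A) from hspan.symm, Ideal.map_span, Finset.coe_image]
    rw [hm', ← hs]
    exact (Submodule.spanFinrank_span_le_ncard_of_finite (Finset.finite_toSet _)).trans
      (by rw [Set.ncard_coe_finset]; exact Finset.card_image_le)
  haveI : IsRegularLocalRing R := IsRegularLocalRing.of_spanFinrank_maximalIdeal_le _ (by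
    rw [hdim, ← hreg]; exact_mod_cast hle)
  have heq : (maximalIdeal R).spanFinrank = (maximalIdeal A).spanFinrank := by
    have h1 := (isRegularLocalRing_iff R).1 inferInstance
    rw [hdim, ← hreg] at h1
    exact_mod_cast h1
  haveI : IsLocalHom (algebraMap A R) := ((IsLocalRing.local_hom_TFAE _).out 0 2).2 (le_of_eq hmR)
  haveI : Module.Flat A R := Module.Flat.trans A G R
  haveI : IsAlgClosed (ResidueField G) := IsAlgClosed.of_ringEquiv K (ResidueField G) eK.symm
  let ι : ResidueField G →+* ResidueField R := ResidueField.map (algebraMap G R)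
  have hι : Function.Surjective ι := fun z => by
    obtain ⟨b, rfl⟩ := residue_surjective z
    obtain ⟨a, ha⟩ := hres b
    refine ⟨residue G a, ?_⟩
    rw [ResidueField.map_residue, eq_comm, ← sub_eq_zero, ← map_sub]
    exact (residue_eq_zero_iff _).2 ha
  have hc : IsAdicComplete (maximalIdeal R) R := by
    rw [← hm2]
    exact (IsAdicComplete.map_algebraMap_iff _ _).2 (AdicCompletion.isAdicComplete (M := G) (IsNoetherian.noetherian _))
  exact ⟨R, inferInstance, inferInstance, inferInstance, hc,
    IsAlgClosed.of_ringEquiv (ResidueField G) (ResidueField R) (RingEquiv.ofBijective ι ⟨ι.injective, hι⟩),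
    Module.FaithfullyFlat.of_flat_of_isLocalHom, hmR, heq⟩

end PurityLib
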