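import Groth.Agent.PurityLib.Main
import Groth.Agent.EtStalkLib.Basic
import Groth.Agent.S6881
import Groth.Agent.S9246
import Groth.Agent.AdicRingLib.FlatPoint
import Groth.Agent.WildQuotLib.Generate
import Groth.Agent.CohenLib.Normalization
import Mathlib.RingTheory.Etale.QuasiFinite

/-!
# Purity of the branch locus at a normal point
-/

set_option autoImplicit false
set_option linter.style.haveILetI false
set_option linter.unusedSectionVars false

universe u

open IsLocalRing
open scoped TensorProduct

namespace PurityLib

/-- Zariski purity for a finite normal extension; only primes over height one are tested. -/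
theorem etale_of_normal_finite_base (A : Type u) [CommRing A] [IsRegularLocalRing A] (B : Type u) [CommRing B]
    [IsDomain B] [IsIntegrallyClosed B] [Algebra A B] [Module.Finite A B]
    (hinj : Function.Injective (algebraMap A B)) (hdim : (1 : WithBot ℕ∞) ≤ ringKrullDim A)
    (hunr : ∀ (Q : Ideal B) [Q.IsPrime], Q.height = 1 → (Q.under A).height ≤ 1 → Algebra.IsUnramifiedAt A Q) : Algebra.Etale A B := by
  classical
  haveI : IsDomain A := CommAlgDim.isDomain_of_isRegularLocalRing A
  haveI : IsIntegrallyClosed A := NormalLib.isIntegrallyClosed_of_isRegularLocalRing A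
  haveI : FaithfulSMul A B := (faithfulSMul_iff_algebraMap_injective A B).2 hinj
  haveI : IsNoetherianRing B := IsNoetherianRing.of_finite A B
  haveI : Algebra.IsIntegral A B := Algebra.IsIntegral.of_finite A B
  -- reflexive
  haveI : Module.IsReflexive A B := by
    let K := FractionRing A
    let L := FractionRing B
    letI : Algebra K L := FractionRing.liftAlgebra A L
    haveI : IsScalarTower A K L := FractionRing.isScalarTower_liftAlgebra A L
    haveI : FiniteDimensional K L := Module.Finite.of_isLocalization A B (nonZeroDivisors A)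
    haveI : IsIntegralClosure B A L := IsIntegralClosure.of_isIntegrallyClosed B A L
    let e : B ≃ₐ[A] integralClosure A L := IsIntegralClosure.equiv A B L (integralClosure A L)
    haveI : Module.Finite A (integralClosure A L) := Module.Finite.equiv e.toLinearEquiv
    haveI := Groth.Agent.S6881.result A K L
    exact Module.equiv e.symm.toLinearEquiv
  -- some prime of height one exists
  have h1 : ∃ (Q : Ideal B) (_ : Q.IsPrime), Q.height = 1 ∧ (Q.under A).height ≤ 1 := by
    obtain ⟨x, hx, hx0⟩ : ∃ x ∈ maximalIdeal A, x ≠ 0 := Submodule.exists_mem_ne_zero_of_ne_bot fun hbot => by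
      rw [← maximalIdeal_height_eq_ringKrullDim, hbot, Ideal.height_bot] at hdim
      exact absurd (WithBot.coe_le_coe.1 hdim) (by norm_num)
    obtain ⟨q, hq, hxq, hq1⟩ := exists_prime_height_le_one (show ¬ IsUnit x from hx)
    obtain ⟨Q, -, hQ, hQq⟩ := Ideal.exists_ideal_over_prime_of_isIntegral (S := B) q ⊥ (by
      rw [← RingHom.ker_eq_comap_bot, (RingHom.injective_iff_ker_eq_bot _).1 hinj]; exact bot_le)
    subst hQq
    refine ⟨Q, hQ, le_antisymm ((WildQuotLib.height_le_height_under Q).trans hq1)
      (ENat.one_le_iff_ne_zero.2 fun h0 => ?_), hq1⟩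
    rw [Ideal.height_eq_zero_iff, IsDomain.minimalPrimes_eq_singleton_bot, Set.mem_singleton_iff] at h0
    subst h0
    exact hx0 (hinj ((Ideal.mem_bot.1 (Ideal.mem_comap.1 hxq)).trans (map_zero _).symm))
  have hunr' : ∀ (Q : Ideal B) [Q.IsPrime], Q.height ≤ 1 → (Q.under A).height ≤ 1 → Algebra.IsUnramifiedAt A Q := by
    intro Q _ hQ hQ'
    rcases eq_or_lt_of_le hQ with h | h
    · exact hunr Q h hQ'
    · rw [ENat.lt_one_iff_eq_zero, Ideal.height_eq_zero_iff, IsDomain.minimalPrimes_eq_singleton_bot,
        Set.mem_singleton_iff] at h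
      subst h
      obtain ⟨Q₁, hQ₁, h₁, h₁'⟩ := h1
      haveI := hunr Q₁ h₁ h₁'
      let L₁ := Localization.AtPrime (⊥ : Ideal B)
      let ψ : Localization.AtPrime Q₁ →+* L₁ := IsLocalization.lift (M := Q₁.primeCompl) (g := algebraMap B L₁) fun y =>
        IsLocalization.map_units L₁ (⟨(y : B), fun h => y.2 (bot_le (a := Q₁) h)⟩ : (⊥ : Ideal B).primeCompl)
      letI := ψ.toAlgebra
      haveI : IsScalarTower B (Localization.AtPrime Q₁) L₁ :=
        IsScalarTower.of_algebraMap_eq fun x => (IsLocalization.lift_eq _ x).symm
      haveI : IsScalarTower A (Localization.AtPrime Q₁) L₁ := IsScalarTower.to₁₃₄ A B _ _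
      haveI : Algebra.FormallyUnramified B L₁ := Algebra.FormallyUnramified.of_isLocalization (⊥ : Ideal B).primeCompl
      haveI : Algebra.FormallyUnramified (Localization.AtPrime Q₁) L₁ :=
        Algebra.FormallyUnramified.of_restrictScalars B _ _
      exact Algebra.FormallyUnramified.comp A (Localization.AtPrime Q₁) L₁
  refine etale_of_etAt_height_le_one B fun p _ hp => ?_
  let Ap := Localization.AtPrime p
  let Bp := Ap ⊗[A] B
  haveI := CommAlgDim.isRegularLocalRing_localization A p
  haveI : Module.Free Ap Bp := by
    haveI : Module.IsReflexive Ap Bp := by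
      haveI : IsLocalizedModule p.primeCompl (TensorProduct.mk A Ap B 1) := inferInstance
      exact (ReflexLib.isReflexive_iff_reflOn p.primeCompl Ap (TensorProduct.mk A Ap B 1)).2
        ((ReflexLib.isReflexive_iff_reflOn_bot.1 inferInstance).mono bot_le)
    refine free_of_reflexive_dim_le_two Ap ?_ Bp
    have h2 := (isRegularLocalRing_iff Ap).1 inferInstance
    rw [IsLocalization.AtPrime.ringKrullDim_eq_height p Ap] at h2
    have h3 : ((maximalIdeal Ap).spanFinrank : ℕ∞) = p.height := by exact_mod_cast h2
    have h4 : ((maximalIdeal Ap).spanFinrank : ℕ∞) ≤ 1 := h3.le.trans hp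
    have h5 : (maximalIdeal Ap).spanFinrank ≤ 1 := by exact_mod_cast h4
    omega
  letI : Algebra B Bp := Algebra.TensorProduct.rightAlgebra
  haveI : IsScalarTower A B Bp := IsScalarTower.of_algebraMap_eq fun x => by
    rw [RingHom.algebraMap_toAlgebra]
    exact (AlgHom.commutes (Algebra.TensorProduct.includeRight : B →ₐ[A] Bp) x).symm
  haveI : IsLocalization (Algebra.algebraMapSubmonoid B p.primeCompl) Bp :=
    IsLocalization.tensorRight (R := A) (A := Ap) (S := B) p.primeCompl
  haveI : Algebra.FormallyUnramified Ap Bp := by
    refine Algebra.formallyUnramified_iff_forall.2 fun Q' => ?_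
    let L := Localization.AtPrime Q'.asIdeal
    let Q := Q'.asIdeal.comap (algebraMap B Bp)
    have hQp : (Q.under A).height ≤ 1 := by
      refine le_trans (Ideal.height_mono fun a ha => ?_) hp
      by_contra hap
      exact (Ideal.IsPrime.ne_top inferInstance) (Ideal.eq_top_of_isUnit_mem Q'.asIdeal
        (show algebraMap B Bp (algebraMap A B a) ∈ Q'.asIdeal from ha)
        (IsLocalization.map_units Bp (⟨algebraMap A B a, a, hap, rfl⟩ : Algebra.algebraMapSubmonoid B p.primeCompl)))
    haveI := hunr' Q ((WildQuotLib.height_le_height_under Q).trans hQp) hQp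
    haveI : IsLocalization.AtPrime L Q :=
      IsLocalization.isLocalization_isLocalization_atPrime_isLocalization
        (Algebra.algebraMapSubmonoid B p.primeCompl) L Q'.asIdeal
    let e : Localization.AtPrime Q ≃ₐ[B] L := IsLocalization.algEquiv Q.primeCompl _ _
    haveI : Algebra.FormallyUnramified A L := Algebra.FormallyUnramified.of_equiv (e.restrictScalars A)
    exact Algebra.FormallyUnramified.of_restrictScalars A Ap L
  haveI : IsNoetherianRing Ap := IsLocalization.isNoetherianRing p.primeCompl _ inferInstance
  haveI : Algebra.FinitePresentation Ap Bp := Algebra.FinitePresentation.of_finiteType.1 inferInstance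
  exact Algebra.Etale.of_formallyUnramified_of_flat

/-- Zariski purity for a finite normal extension of a regular local ring. -/
theorem etale_of_normal_finite (A : Type u) [CommRing A] [IsRegularLocalRing A] (B : Type u) [CommRing B]
    [IsDomain B] [IsIntegrallyClosed B] [Algebra A B] [Module.Finite A B]
    (hinj : Function.Injective (algebraMap A B)) (hdim : (1 : WithBot ℕ∞) ≤ ringKrullDim A)
    (hunr : ∀ (Q : Ideal B) [Q.IsPrime], Q.height = 1 → Algebra.IsUnramifiedAt A Q) : Algebra.Etale A B :=
  etale_of_normal_finite_base A B hinj hdim fun Q _ h _ => hunr Q h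

theorem dim_eq_of_etale {A B : Type u} [CommRing A] [IsNoetherianRing A] [CommRing B] [Algebra A B]
    [Algebra.Etale A B] (p : Ideal A) [p.IsPrime] (Q : Ideal B) [Q.IsPrime] [Q.LiesOver p] :
    ringKrullDim (Localization.AtPrime Q) = ringKrullDim (Localization.AtPrime p) := by
  letI := Localization.AtPrime.algebraOfLiesOver p Q
  haveI : IsNoetherianRing B := Algebra.FiniteType.isNoetherianRing A B
  haveI : IsNoetherianRing (Localization.AtPrime p) := IsLocalization.isNoetherianRing p.primeCompl _ ‹_›
  haveI : IsNoetherianRing (Localization.AtPrime Q) := IsLocalization.isNoetherianRing Q.primeCompl _ ‹_›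
  haveI : Module.Flat (Localization.AtPrime p) (Localization.AtPrime Q) := by
    haveI : Module.Flat A (Localization.AtPrime Q) := Module.Flat.trans A B _
    exact (Module.flat_iff_of_isLocalization (Localization.AtPrime p) p.primeCompl _).2 inferInstance
  haveI : IsLocalHom (algebraMap (Localization.AtPrime p) (Localization.AtPrime Q)) :=
    Localization.isLocalHom_localRingHom p Q (algebraMap A B) (Q.over_def p)
  haveI : Algebra.FormallyUnramified A (Localization.AtPrime Q) := Algebra.FormallyUnramified.comp A B _
  haveI : Algebra.FormallyUnramified (Localization.AtPrime p) (Localization.AtPrime Q) :=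
    Algebra.FormallyUnramified.of_restrictScalars A _ _
  haveI : Algebra.EssFiniteType A (Localization.AtPrime Q) := Algebra.EssFiniteType.comp A B _
  haveI : Algebra.EssFiniteType (Localization.AtPrime p) (Localization.AtPrime Q) :=
    Algebra.EssFiniteType.of_comp A _ _
  exact CohenLib.ringKrullDim_eq_of_flat_unramified _ _ Algebra.FormallyUnramified.map_maximalIdeal

theorem height_eq_of_etale {A B : Type u} [CommRing A] [IsNoetherianRing A] [CommRing B] [Algebra A B]
    [Algebra.Etale A B] (p : Ideal A) [p.IsPrime] (Q : Ideal B) [Q.IsPrime] [Q.LiesOver p] :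
    Q.height = p.height := by
  have h := dim_eq_of_etale p Q
  rw [IsLocalization.AtPrime.ringKrullDim_eq_height Q (Localization.AtPrime Q),
    IsLocalization.AtPrime.ringKrullDim_eq_height p (Localization.AtPrime p)] at h
  exact_mod_cast h

set_option synthInstance.maxHeartbeats 200000 in
set_option maxHeartbeats 1000000 in
/-- Zariski purity at a normal point of a quasi-finite algebra. -/
theorem flat_unramified_of_normal (R S : Type u) [CommRing R] [IsNoetherianRing R] [CommRing S] [Algebra R S]
    [Algebra.FiniteType R S] (p : Ideal R) [p.IsPrime] (q : Ideal S) [q.IsPrime] [q.LiesOver p]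
    [Algebra.QuasiFiniteAt R q] [IsRegularLocalRing (Localization.AtPrime p)]
    [IsDomain (Localization.AtPrime q)] [IsIntegrallyClosed (Localization.AtPrime q)]
    (hdim : ringKrullDim (Localization.AtPrime q) = ringKrullDim (Localization.AtPrime p))
    (hdim1 : (1 : WithBot ℕ∞) ≤ ringKrullDim (Localization.AtPrime q))
    (hunr : ∀ (Q : Ideal S) [Q.IsPrime], Q ≤ q → Q.height = 1 → Algebra.IsUnramifiedAt R Q) :
    Module.Flat R (Localization.AtPrime q) ∧ Algebra.IsUnramifiedAt R q := by
  classical
  obtain ⟨R', _, _, _, P, _, _, e, he, P', _, _, hP'q, heP', -, hfin, huniq⟩ :=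
    Algebra.exists_etale_isIdempotentElem_forall_liesOver_eq (R := R) (S := S) p q
  haveI : IsNoetherianRing R' := Algebra.FiniteType.isNoetherianRing R R'
  haveI : IsNoetherianRing S := Algebra.FiniteType.isNoetherianRing R S
  let U := R' ⊗[R] S
  letI : Algebra S U := Algebra.TensorProduct.rightAlgebra
  haveI : IsScalarTower R S U := IsScalarTower.of_algebraMap_eq fun x => by
    rw [RingHom.algebraMap_toAlgebra]
    exact (AlgHom.commutes (Algebra.TensorProduct.includeRight : S →ₐ[R] U) x).symm
  haveI : Algebra.Etale S U := Algebra.Etale.of_equiv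
    (({ Algebra.TensorProduct.comm R S R' with
        commutes' := fun x => by
          show Algebra.TensorProduct.comm R S R' (x ⊗ₜ[R] 1) = (1 : R') ⊗ₜ[R] x
          simp } : S ⊗[R] R' ≃ₐ[S] U))
  haveI : IsNoetherianRing U := Algebra.FiniteType.isNoetherianRing S U
  haveI : P'.LiesOver q := ⟨hP'q.symm⟩
  let T := Localization.Away e
  let QT := P'.map (algebraMap U T)
  have hdisj : Disjoint (Submonoid.powers e : Set U) ↑P' :=
    (Ideal.disjoint_powers_iff_notMem_of_isPrime e).2 heP'
  haveI : QT.IsPrime := IsLocalization.isPrime_of_isPrime_disjoint _ _ _ ‹_› hdisj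
  have hQT : QT.comap (algebraMap U T) = P' := IsLocalization.comap_map_of_isPrime_disjoint _ _ ‹_› hdisj
  haveI : QT.LiesOver P' := ⟨hQT.symm⟩
  haveI : QT.LiesOver P := .trans _ P' _
  let B := Localization.AtPrime QT
  haveI : IsLocalization.AtPrime B P' := by
    have key : ∀ (J : Ideal U) [J.IsPrime], J = P' → IsLocalization.AtPrime B J → IsLocalization.AtPrime B P' := by
      rintro J _ rfl h; exact h
    exact key _ hQT (IsLocalization.isLocalization_isLocalization_atPrime_isLocalization (Submonoid.powers e) B QT)
  let A' := Localization.AtPrime P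
  letI := Localization.AtPrime.algebraOfLiesOver P QT
  haveI : IsLocalHom (algebraMap A' B) := Localization.isLocalHom_localRingHom P QT (algebraMap R' T) (QT.over_def P)
  -- the maps from `S`
  let φ : Localization.AtPrime q →+* B := IsLocalization.lift (M := q.primeCompl) (g := algebraMap S B) fun y => by
    rw [IsScalarTower.algebraMap_apply S U B]
    exact IsLocalization.map_units B (⟨algebraMap S U y, fun h => y.2 (hP'q ▸ h : (y : S) ∈ q)⟩ : P'.primeCompl)
  letI : Algebra (Localization.AtPrime q) B := φ.toAlgebra
  haveI : IsScalarTower S (Localization.AtPrime q) B := IsScalarTower.of_algebraMap_eq fun x =>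
    (IsLocalization.lift_eq _ x).symm
  haveI : IsScalarTower R (Localization.AtPrime q) B := IsScalarTower.to₁₃₄ R S _ _
  haveI : Module.Flat U B := IsLocalization.flat B P'.primeCompl
  haveI : Module.Flat S B := Module.Flat.trans S U B
  haveI : Module.Flat (Localization.AtPrime q) B :=
    (Module.flat_iff_of_isLocalization (Localization.AtPrime q) q.primeCompl _).2 inferInstance
  haveI : IsLocalHom (algebraMap (Localization.AtPrime q) B) := ⟨fun z hz => by
    obtain ⟨x, s, rfl⟩ := IsLocalization.exists_mk'_eq q.primeCompl z
    rw [IsLocalization.AtPrime.isUnit_mk'_iff]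
    intro hx
    have h1 : IsUnit (algebraMap S B x) := by
      have h2 := hz.mul ((IsLocalization.map_units (Localization.AtPrime q) s).map (algebraMap (Localization.AtPrime q) B))
      rwa [← map_mul, IsLocalization.mk'_spec, ← IsScalarTower.algebraMap_apply] at h2
    rw [IsScalarTower.algebraMap_apply S U B, IsLocalization.AtPrime.isUnit_to_map_iff B P'] at h1
    exact h1 (hP'q.symm ▸ hx : x ∈ P'.comap _)⟩
  obtain ⟨hBdom, hBic⟩ : IsDomain B ∧ IsIntegrallyClosed B :=
    HenselLib.normal_of_etCov (R := Localization.AtPrime q)
      fun x => EtStalkLib.etCov_localization (A := S) (B := U) _ _ q.primeCompl P'.primeCompl x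
  -- `B` is finite over `A'`
  haveI : Module.Finite R' T := hfin
  haveI : Module.Finite A' B := by
    let ψ : A' ⊗[R'] T →ₐ[A'] B :=
      Algebra.TensorProduct.lift (Algebra.ofId A' B) (IsScalarTower.toAlgHom R' T B) fun _ _ => Commute.all _ _
    refine Module.Finite.of_surjective ψ.toLinearMap fun b => ?_
    obtain ⟨t, s, rfl⟩ := IsLocalization.exists_mk'_eq QT.primeCompl b
    have hu : IsUnit ((1 : A') ⊗ₜ[R'] (s : T)) := by
      by_contra hu
      obtain ⟨M, hM, hmem⟩ := exists_max_ideal_of_mem_nonunits hu
      haveI : Algebra.IsIntegral A' (A' ⊗[R'] T) := Algebra.IsIntegral.of_finite _ _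
      have hMA : M.comap (algebraMap A' (A' ⊗[R'] T)) = maximalIdeal A' :=
        IsLocalRing.eq_maximalIdeal (Ideal.isMaximal_comap_of_isIntegral_of_isMaximal M)
      let ι := (Algebra.TensorProduct.includeRight : T →ₐ[R'] A' ⊗[R'] T)
      let M' := M.comap ι.toRingHom
      let M'' := M'.comap (algebraMap U T)
      have hover : M''.LiesOver P := ⟨by
        ext a
        rw [← IsLocalization.AtPrime.to_map_mem_maximal_iff A' P a, ← hMA, Ideal.mem_comap, Ideal.under_def,
          Ideal.mem_comap, Ideal.mem_comap, Ideal.mem_comap, ← IsScalarTower.algebraMap_apply R' A',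
          ← IsScalarTower.algebraMap_apply R' U T]
        exact iff_of_eq (congrArg (· ∈ M) (ι.commutes a).symm)⟩
      have heM : e ∉ M'' := fun h => (Ideal.IsPrime.ne_top inferInstance) (Ideal.eq_top_of_isUnit_mem M'
        (show algebraMap U T e ∈ M' from h) (IsLocalization.Away.algebraMap_isUnit e))
      have hM'' : M'' = P' := huniq M'' inferInstance hover heM
      have hM' : M' = QT := by rw [← IsLocalization.map_comap (Submonoid.powers e) T M']; exact congrArg _ hM''
      exact s.2 (hM'.le hmem)
    refine ⟨((1 : A') ⊗ₜ[R'] t) * ↑hu.unit⁻¹, (IsLocalization.eq_mk'_iff_mul_eq).2 ?_⟩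
    have h1 : ∀ x : T, ψ ((1 : A') ⊗ₜ[R'] x) = algebraMap T B x := fun x => by
      rw [Algebra.TensorProduct.lift_tmul, map_one, one_mul]; rfl
    show ψ _ * _ = _
    rw [← h1, ← map_mul, mul_assoc, IsUnit.val_inv_mul, mul_one, h1]
  -- regularity and dimensions
  have hPp : P.comap (algebraMap R R') = p := (P.over_def p).symm
  haveI : IsRegularLocalRing A' := (Groth.Agent.S9246.result R R' P).1 (by
    have : ∀ (p' : Ideal R) [p'.IsPrime], p' = p → IsRegularLocalRing (Localization.AtPrime p') := by
      rintro p' _ rfl; infer_instance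
    exact this _ hPp)
  have hdB : ringKrullDim B = ringKrullDim (Localization.AtPrime q) := by
    have := dim_eq_of_etale q P'
    rw [← this]
    exact ringKrullDim_eq_of_ringEquiv (IsLocalization.algEquiv P'.primeCompl B (Localization.AtPrime P')).toRingEquiv
  have hdA : ringKrullDim A' = ringKrullDim (Localization.AtPrime p) := dim_eq_of_etale p P
  haveI := hBdom
  haveI := hBic
  haveI : IsDomain A' := CommAlgDim.isDomain_of_isRegularLocalRing A'
  have hinj : Function.Injective (algebraMap A' B) := by
    rw [injective_iff_map_eq_zero]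
    intro r hr
    by_contra hr0
    have h1 := ringKrullDim_quotient_succ_le_of_nonZeroDivisor (mem_nonZeroDivisors_of_ne_zero hr0)
    let f : A' ⧸ Ideal.span {r} →+* B := Ideal.Quotient.lift _ (algebraMap A' B) fun a ha => by
      obtain ⟨c, rfl⟩ := Ideal.mem_span_singleton'.1 ha
      rw [map_mul, hr, mul_zero]
    letI := f.toAlgebra
    haveI : IsScalarTower A' (A' ⧸ Ideal.span {r}) B := ⟨fun a q b => by
      obtain ⟨q, rfl⟩ := Ideal.Quotient.mk_surjective q
      show f (Ideal.Quotient.mk _ (a * q)) * b = a • (f (Ideal.Quotient.mk _ q) * b)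
      rw [Ideal.Quotient.lift_mk, Ideal.Quotient.lift_mk, map_mul, Algebra.smul_def, mul_assoc]⟩
    haveI : Module.Finite (A' ⧸ Ideal.span {r}) B := Module.Finite.of_restrictScalars_finite A' _ _
    have h2 : ringKrullDim B ≤ ringKrullDim (A' ⧸ Ideal.span {r}) :=
      CohenLib.ringKrullDim_le_of_isIntegral _ _
    rw [hdB, hdim, ← hdA] at h2
    have h3 := h1
    have hfinA := ringKrullDim_lt_top (R := A')
    rw [← (isRegularLocalRing_iff A').1 inferInstance] at h2 h3
    have h4 := (add_le_add_left h2 1)
    exact absurd (le_trans (by simpa [add_comm] using h4) h3) (by exact_mod_cast (by omega : ¬ 1 + (maximalIdeal A').spanFinrank ≤ (maximalIdeal A').spanFinrank))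
  have hU : ∀ (Q : Ideal B) [Q.IsPrime], Q.height = 1 → Algebra.IsUnramifiedAt A' Q := by
    intro Q _ hQ
    let QU := Q.comap (algebraMap U B)
    let q₁ := QU.comap (algebraMap S U)
    haveI : QU.LiesOver q₁ := ⟨rfl⟩
    have hle : q₁ ≤ q := fun x hx => by
      by_contra hxq
      exact (Ideal.IsPrime.ne_top inferInstance) (Ideal.eq_top_of_isUnit_mem Q (show algebraMap U B (algebraMap S U x) ∈ Q from hx)
        (IsLocalization.map_units B (⟨algebraMap S U x, fun h => hxq (hP'q ▸ h : x ∈ q)⟩ : P'.primeCompl)))
    have hh : q₁.height = 1 := by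
      rw [← height_eq_of_etale q₁ QU, ← hQ]
      exact IsLocalization.height_comap P'.primeCompl Q
    haveI := hunr q₁ hle hh
    let L := Localization.AtPrime Q
    haveI : IsLocalization.AtPrime L QU :=
      IsLocalization.isLocalization_isLocalization_atPrime_isLocalization P'.primeCompl L Q
    haveI : Algebra.FormallyUnramified R (Localization.AtPrime QU) := by
      letI := Localization.AtPrime.algebraOfLiesOver q₁ QU
      haveI : Algebra.FormallyUnramified S (Localization.AtPrime QU) := Algebra.FormallyUnramified.comp S U _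
      haveI : Algebra.FormallyUnramified (Localization.AtPrime q₁) (Localization.AtPrime QU) :=
        Algebra.FormallyUnramified.of_restrictScalars S _ _
      haveI : IsScalarTower R (Localization.AtPrime q₁) (Localization.AtPrime QU) := IsScalarTower.to₁₃₄ R S _ _
      exact Algebra.FormallyUnramified.comp R (Localization.AtPrime q₁) _
    let e' : Localization.AtPrime QU ≃ₐ[U] L := IsLocalization.algEquiv QU.primeCompl _ _
    haveI : Algebra.FormallyUnramified R L := Algebra.FormallyUnramified.of_equiv (e'.restrictScalars R)
    haveI : Algebra.FormallyUnramified R' L := Algebra.FormallyUnramified.of_restrictScalars R R' L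
    exact Algebra.FormallyUnramified.of_restrictScalars R' A' L
  haveI : Algebra.Etale A' B := etale_of_normal_finite A' B hinj (by rw [hdA, ← hdim]; exact hdim1) hU
  -- descend
  haveI : Algebra.FormallyEtale R' A' := Algebra.FormallyEtale.of_isLocalization P.primeCompl
  haveI : Algebra.FormallyEtale R' B := Algebra.FormallyEtale.comp R' A' B
  haveI : Algebra.FormallyEtale R B := Algebra.FormallyEtale.comp R R' B
  haveI : Module.Flat R' B := Module.Flat.trans R' A' B
  haveI : Module.Flat R B := Module.Flat.trans R R' B
  haveI : Module.FaithfullyFlat (Localization.AtPrime q) B := Module.FaithfullyFlat.of_flat_of_isLocalHom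
  haveI : Module.Flat R (Localization.AtPrime q) :=
    FlatLib.flat_of_faithfullyFlat_module (R := R) (S := Localization.AtPrime q) (M := B)
  haveI : Algebra.FormallyEtale U B := Algebra.FormallyEtale.of_isLocalization P'.primeCompl
  haveI : Algebra.FormallyEtale S B := Algebra.FormallyEtale.comp S U B
  haveI : Algebra.FormallyEtale (Localization.AtPrime q) B := Algebra.FormallyEtale.localization_base q.primeCompl
  haveI : Algebra.IsUnramifiedAt R q := by
    rw [Algebra.IsUnramifiedAt, Algebra.formallyUnramified_iff]
    haveI : Subsingleton (B ⊗[Localization.AtPrime q] Ω[Localization.AtPrime q⁄R]) :=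
      (KaehlerDifferential.tensorKaehlerEquivOfFormallyEtale R (Localization.AtPrime q) B).toEquiv.subsingleton
    exact (Module.FaithfullyFlat.subsingleton_tensorProduct_iff_right (Localization.AtPrime q) B).1 inferInstance
  exact ⟨inferInstance, inferInstance⟩

end PurityLib
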