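import Groth.Agent.ReflexLib.Normal
import Groth.Agent.ReflexLib.Ops
import Groth.Agent.QFDualLib.Basic
import Groth.Agent.FinEtLib.Fibre
import Mathlib.RingTheory.Etale.Locus
import Mathlib.RingTheory.Flat.Localization

/-!
# Étaleness at primes of the base for finite algebras
-/

set_option autoImplicit false
set_option linter.style.haveILetI false
set_option linter.unusedSectionVars false

universe u

open scoped TensorProduct

namespace PurityLib

variable {A : Type u} [CommRing A] {B : Type u} [CommRing B] [Algebra A B]

/-- `B` is étale over `A` at the prime `p` of `A`. -/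
def EtAt (p : Ideal A) [p.IsPrime] (B : Type u) [CommRing B] [Algebra A B] : Prop :=
  Algebra.Etale (Localization.AtPrime p) (Localization.AtPrime p ⊗[A] B)

theorem EtAt.baseChange {R : Type u} [CommRing R] [Algebra A R] {p : Ideal A} [p.IsPrime] (q : Ideal R)
    [q.IsPrime] (h : p = q.comap (algebraMap A R)) (he : EtAt p B) : EtAt q (R ⊗[A] B) := by
  let φ := Localization.localRingHom p q (algebraMap A R) h
  letI := φ.toAlgebra
  haveI : IsScalarTower A (Localization.AtPrime p) (Localization.AtPrime q) :=
    IsScalarTower.of_algebraMap_eq fun x => by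
      rw [RingHom.algebraMap_toAlgebra, Localization.localRingHom_to_map,
        IsScalarTower.algebraMap_apply A R (Localization.AtPrime q)]
  haveI : Algebra.Etale (Localization.AtPrime p) (Localization.AtPrime p ⊗[A] B) := he
  exact Algebra.Etale.of_equiv ((Algebra.TensorProduct.cancelBaseChange A (Localization.AtPrime p)
    (Localization.AtPrime q) (Localization.AtPrime q) B).trans
    (Algebra.TensorProduct.cancelBaseChange A R (Localization.AtPrime q) (Localization.AtPrime q) B).symm)

/-- A linear map is bijective after localising at `p`, tested on elements. -/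
def BijAt (p : Ideal A) {M M' : Type u} [AddCommGroup M] [Module A M] [AddCommGroup M'] [Module A M']
    (t : M →ₗ[A] M') : Prop :=
  (∀ x, t x = 0 → ∃ u ∉ p, u • x = 0) ∧ ∀ y, ∃ u ∉ p, ∃ x, t x = u • y

theorem bijective_map_of_bijAt {C : Type u} [CommRing C] [Algebra A C] {p : Ideal A} [p.IsPrime]
    (φ : B →ₐ[A] C) (h : BijAt p φ.toLinearMap) : Function.Bijective
      (Algebra.TensorProduct.map (AlgHom.id (Localization.AtPrime p) (Localization.AtPrime p)) φ) := by
  exact (ReflexLib.bijective_iff_of_comm p.primeCompl (TensorProduct.mk A (Localization.AtPrime p) B 1)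
    (TensorProduct.mk A (Localization.AtPrime p) C 1) φ.toLinearMap
    ((Algebra.TensorProduct.map (AlgHom.id (Localization.AtPrime p) (Localization.AtPrime p)) φ).toLinearMap.restrictScalars A)
    fun x => by simp).2 h

theorem bijAt_of_bijective_map {C : Type u} [CommRing C] [Algebra A C] {p : Ideal A} [p.IsPrime]
    (φ : B →ₐ[A] C) (h : Function.Bijective
      (Algebra.TensorProduct.map (AlgHom.id (Localization.AtPrime p) (Localization.AtPrime p)) φ)) :
    BijAt p φ.toLinearMap :=
  (ReflexLib.bijective_iff_of_comm p.primeCompl (TensorProduct.mk A (Localization.AtPrime p) B 1)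
    (TensorProduct.mk A (Localization.AtPrime p) C 1) φ.toLinearMap
    ((Algebra.TensorProduct.map (AlgHom.id (Localization.AtPrime p) (Localization.AtPrime p)) φ).toLinearMap.restrictScalars A)
    fun x => by simp).1 h

theorem EtAt.of_bijAt {C : Type u} [CommRing C] [Algebra A C] {p : Ideal A} [p.IsPrime] (φ : B →ₐ[A] C)
    (h : BijAt p φ.toLinearMap) (he : EtAt p B) : EtAt p C := by
  haveI : Algebra.Etale (Localization.AtPrime p) (Localization.AtPrime p ⊗[A] B) := he
  exact Algebra.Etale.of_equiv (AlgEquiv.ofBijective _ (bijective_map_of_bijAt φ h))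

theorem etAt_of_etale [Algebra.Etale A B] (p : Ideal A) [p.IsPrime] : EtAt p B :=
  inferInstanceAs (Algebra.Etale (Localization.AtPrime p) (Localization.AtPrime p ⊗[A] B))

/-- A finite algebra étale at every prime is étale. -/
theorem etale_of_forall [IsNoetherianRing A] [Module.Finite A B]
    (h : ∀ (p : Ideal A) [p.IsPrime], EtAt p B) : Algebra.Etale A B := by
  haveI : Algebra.FinitePresentation A B := Algebra.FinitePresentation.of_finiteType.1 inferInstance
  refine Algebra.etaleLocus_eq_univ_iff_etale.1 (Set.eq_univ_of_forall fun Q => ?_)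
  let P := Q.asIdeal
  let p := P.comap (algebraMap A B)
  let Ap := Localization.AtPrime p
  let BQ := Localization.AtPrime P
  let Bp := Ap ⊗[A] B
  haveI : Algebra.Etale Ap Bp := h p
  letI : Algebra B Bp := Algebra.TensorProduct.rightAlgebra
  haveI : IsScalarTower A B Bp := IsScalarTower.of_algebraMap_eq fun x => by
    rw [RingHom.algebraMap_toAlgebra]
    exact (AlgHom.commutes (Algebra.TensorProduct.includeRight : B →ₐ[A] Bp) x).symm
  haveI : IsLocalization (Algebra.algebraMapSubmonoid B p.primeCompl) Bp := IsLocalization.tensorRight (R := A) (A := Ap) (S := B) p.primeCompl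
  let φ := Localization.localRingHom p P (algebraMap A B) rfl
  let φA : Ap →ₐ[A] BQ := AlgHom.mk φ fun x => by
    exact (Localization.localRingHom_to_map p P (algebraMap A B) rfl x).trans
      (IsScalarTower.algebraMap_apply A B BQ x).symm
  let ψ : Bp →ₐ[A] BQ := Algebra.TensorProduct.lift φA (IsScalarTower.toAlgHom A B BQ) fun _ _ => Commute.all _ _
  letI : Algebra Bp BQ := ψ.toRingHom.toAlgebra
  haveI : IsScalarTower B Bp BQ := IsScalarTower.of_algebraMap_eq fun x => by
    rw [RingHom.algebraMap_toAlgebra, RingHom.algebraMap_toAlgebra]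
    show algebraMap B BQ x = ψ ((1 : Ap) ⊗ₜ[A] x)
    rw [Algebra.TensorProduct.lift_tmul, map_one, one_mul]
    rfl
  haveI : IsScalarTower A Bp BQ := IsScalarTower.of_algebraMap_eq fun x => by
    show algebraMap A BQ x = ψ (algebraMap A Bp x)
    exact (ψ.commutes x).symm
  haveI : Algebra.FormallyEtale B BQ := Algebra.FormallyEtale.of_isLocalization P.primeCompl
  haveI : Algebra.FormallyEtale Bp BQ :=
    Algebra.FormallyEtale.localization_base (Algebra.algebraMapSubmonoid B p.primeCompl)
  haveI : Algebra.FormallyEtale A Ap := Algebra.FormallyEtale.of_isLocalization p.primeCompl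
  haveI : Algebra.FormallyEtale A Bp := Algebra.FormallyEtale.comp A Ap Bp
  show Algebra.FormallyEtale A BQ
  exact Algebra.FormallyEtale.comp A Bp BQ

theorem exists_prime_height_le_one [IsNoetherianRing A] {a : A} (ha : ¬ IsUnit a) :
    ∃ (p : Ideal A) (_ : p.IsPrime), a ∈ p ∧ p.height ≤ 1 := by
  have hne : Ideal.span {a} ≠ ⊤ := fun h => ha (Ideal.span_singleton_eq_top.1 h)
  obtain ⟨M, hM, hle⟩ := Ideal.exists_le_maximal _ hne
  obtain ⟨p, hp, -⟩ := Ideal.exists_minimalPrimes_le (J := M) hle
  exact ⟨p, hp.1.1, hp.1.2 (Ideal.mem_span_singleton_self a),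
    Ideal.height_le_one_of_isPrincipal_of_mem_minimalPrimes _ _ hp⟩

/-- A free finite algebra étale in height at most one is étale. -/
theorem etale_of_free [IsNoetherianRing A] [Module.Finite A B] [Module.Free A B]
    (h : ∀ (p : Ideal A) [p.IsPrime], p.height ≤ 1 → EtAt p B) : Algebra.Etale A B := by
  classical
  rcases subsingleton_or_nontrivial A with _ | _
  · exact etale_of_forall fun p hp => absurd (Subsingleton.elim p ⊤) hp.ne_top
  let b := Module.Free.chooseBasis A B
  have hu : IsUnit (Algebra.discr A b) := by
    by_contra hu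
    obtain ⟨p, hp, hmem, hht⟩ := exists_prime_height_le_one hu
    haveI : Algebra.Etale (Localization.AtPrime p) (Localization.AtPrime p ⊗[A] B) := h p hht
    letI : Algebra B (Localization.AtPrime p ⊗[A] B) := Algebra.TensorProduct.rightAlgebra
    let b' := Algebra.TensorProduct.basis (Localization.AtPrime p) b
    have h1 := QFDualLib.isUnit_discr_of_etale b'
    rw [QFDualLib.discr_map b b' (fun i => by
      rw [RingHom.algebraMap_toAlgebra]; simp [b']), IsLocalization.AtPrime.isUnit_to_map_iff _ p] at h1
    exact h1 hmem
  haveI := QFDualLib.formallyUnramified_of_isUnit_discr b hu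
  haveI : Algebra.FinitePresentation A B := Algebra.FinitePresentation.of_finiteType.1 inferInstance
  exact Algebra.Etale.of_formallyUnramified_of_flat

end PurityLib
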