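import Groth.Agent.CohenLib.PSHom
import Mathlib.RingTheory.AdicCompletion.Basic

/-! Homomorphisms out of power series into separated rings (universe-polymorphic). -/

namespace PurityLib

open CohenLib

universe u v

theorem psHom_ext {Λ : Type u} [CommRing Λ] {n : ℕ} {S : Type v} [CommRing S] (I : Ideal S) [IsHausdorff I S]
    (φ ψ : MvPowerSeries (Fin n) Λ →+* S) (hC : ∀ c, φ (MvPowerSeries.C c) = ψ (MvPowerSeries.C c))
    (hX : ∀ i, φ (MvPowerSeries.X i) = ψ (MvPowerSeries.X i)) (hI : ∀ i, φ (MvPowerSeries.X i) ∈ I) :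
    φ = ψ := by
  refine RingHom.ext fun f => sub_eq_zero.1 (IsHausdorff.haus (I := I) ‹_› _ fun N => ?_)
  rw [SModEq.sub_mem, sub_zero, smul_eq_mul, Ideal.mul_top, ← Ideal.Quotient.eq]
  have key : ∀ χ : MvPowerSeries (Fin n) Λ →+* S, (∀ i, χ (MvPowerSeries.X i) ∈ I) →
      ∀ g ∈ varsIdeal Λ n ^ N, (Ideal.Quotient.mk (I ^ N)).comp χ g = 0 := by
    intro χ hχ g hg
    rw [RingHom.comp_apply, Ideal.Quotient.eq_zero_iff_mem]
    have h1 : (varsIdeal Λ n).map χ ≤ I := by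
      rw [varsIdeal, Ideal.map_span, Ideal.span_le]
      rintro _ ⟨_, ⟨i, rfl⟩, rfl⟩
      exact hχ i
    have h2 := Ideal.mem_map_of_mem χ hg
    rw [Ideal.map_pow] at h2
    exact Ideal.pow_right_mono h1 N h2
  exact RingHom.congr_fun (ps_hom_ext ((Ideal.Quotient.mk (I ^ N)).comp φ) ((Ideal.Quotient.mk (I ^ N)).comp ψ)
    (fun c => congrArg _ (hC c)) (fun i => congrArg _ (hX i)) N (key φ hI)
    (key ψ fun i => hX i ▸ hI i)) f

end PurityLib
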