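import Groth.Agent.PurityLib.Basic
import Mathlib.RingTheory.Smooth.Basic
import Mathlib.RingTheory.Localization.Away.Basic

/-!
# Lifting points off the closed point
-/

set_option autoImplicit false
set_option linter.style.haveILetI false
set_option linter.unusedSectionVars false

universe u

open scoped TensorProduct
open IsLocalRing

namespace PurityLib

variable {A : Type u} [CommRing A] [IsLocalRing A] {B : Type u} [CommRing B] [Algebra A B] [Module.Finite A B]
  (hB : ∀ (p : Ideal A) [p.IsPrime], p ≠ maximalIdeal A → EtAt p B)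

include hB

theorem etale_baseChange {R : Type u} [CommRing R] [IsNoetherianRing R] [Algebra A R]
    (hoff : ∀ (q : Ideal R) [q.IsPrime], q.comap (algebraMap A R) ≠ maximalIdeal A) : Algebra.Etale R (R ⊗[A] B) :=
  etale_of_forall fun q _ => (hB _ (hoff q)).baseChange q rfl

theorem hom_ext_off {R S : Type u} [CommRing R] [IsNoetherianRing R] [Algebra A R] [CommRing S]
    (hoff : ∀ (q : Ideal R) [q.IsPrime], q.comap (algebraMap A R) ≠ maximalIdeal A)
    (π : R →+* S) (hker : IsNilpotent (RingHom.ker π)) (h₁ h₂ : B →ₐ[A] R) (h : ∀ b, π (h₁ b) = π (h₂ b)) :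
    h₁ = h₂ := by
  haveI := etale_baseChange hB hoff
  have e := Algebra.FormallyUnramified.ext' (R := R) π hker
    (Algebra.TensorProduct.lift (Algebra.ofId R R) h₁ fun _ _ => Commute.all _ _)
    (Algebra.TensorProduct.lift (Algebra.ofId R R) h₂ fun _ _ => Commute.all _ _) fun z => by
      induction z using TensorProduct.induction_on with
      | zero => simp
      | add u v hu hv => simp only [map_add, hu, hv]
      | tmul r b => simp only [Algebra.TensorProduct.lift_tmul, map_mul, h]
  refine AlgHom.ext fun b => ?_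
  simpa using DFunLike.congr_fun e ((1 : R) ⊗ₜ[A] b)

theorem exists_lift_off {R S : Type u} [CommRing R] [IsNoetherianRing R] [Algebra A R] [CommRing S] [Algebra A S]
    (hoff : ∀ (q : Ideal R) [q.IsPrime], q.comap (algebraMap A R) ≠ maximalIdeal A)
    (π : R →ₐ[A] S) (hπ : Function.Surjective π) (hker : IsNilpotent (RingHom.ker (π : R →+* S)))
    (g : B →ₐ[A] S) : ∃ h : B →ₐ[A] R, π.comp h = g := by
  haveI := etale_baseChange hB hoff
  letI : Algebra R S := π.toRingHom.toAlgebra
  haveI : IsScalarTower A R S := IsScalarTower.of_algebraMap_eq fun a => (π.commutes a).symm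
  let gE : R ⊗[A] B →ₐ[R] S := Algebra.TensorProduct.lift (Algebra.ofId R S) g fun _ _ => Commute.all _ _
  let l : R ⊗[A] B →ₐ[R] R := Algebra.FormallySmooth.liftOfSurjective gE (Algebra.ofId R S) hπ hker
  refine ⟨(l.restrictScalars A).comp Algebra.TensorProduct.includeRight, AlgHom.ext fun b => ?_⟩
  have := Algebra.FormallySmooth.liftOfSurjective_apply gE (Algebra.ofId R S) hπ hker ((1 : R) ⊗ₜ[A] b)
  refine this.trans ?_
  simp [gE]

omit hB in
/-- The primes of a ring in which an element of the maximal ideal becomes invertible. -/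
theorem off_of_isUnit {R : Type u} [CommRing R] [Algebra A R] (a : A) (ha : a ∈ maximalIdeal A)
    (hu : IsUnit (algebraMap A R a)) (q : Ideal R) [hq : q.IsPrime] :
    q.comap (algebraMap A R) ≠ maximalIdeal A :=
  fun h => hq.ne_top (Ideal.eq_top_of_isUnit_mem q (Ideal.mem_comap.1 (h.symm ▸ ha)) hu)

omit hB in
/-- A square-zero thickening stays nilpotent after inverting an element. -/
theorem away_thickening {R S : Type u} [CommRing R] [CommRing S] (π : R →+* S) (hπ : Function.Surjective π)
    (hker : ∀ r r' : R, π r = 0 → π r' = 0 → r * r' = 0) (z : R)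
    (Rz : Type u) [CommRing Rz] [Algebra R Rz] [IsLocalization.Away z Rz]
    (Sz : Type u) [CommRing Sz] [Algebra S Sz] [IsLocalization.Away (π z) Sz] :
    ∃ πz : Rz →+* Sz, (∀ r, πz (algebraMap R Rz r) = algebraMap S Sz (π r)) ∧ Function.Surjective πz ∧
      IsNilpotent (RingHom.ker πz) := by
  let πz : Rz →+* Sz := IsLocalization.Away.map Rz Sz π z
  have hπz : ∀ r, πz (algebraMap R Rz r) = algebraMap S Sz (π r) := fun r => IsLocalization.map_eq _ r
  refine ⟨πz, hπz, fun w => ?_, ⟨2, ?_⟩⟩
  · obtain ⟨i, s, hw⟩ := IsLocalization.Away.surj (π z) w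
    obtain ⟨r, rfl⟩ := hπ s
    have hu : IsUnit (algebraMap R Rz z ^ i) := (IsLocalization.Away.algebraMap_isUnit z).pow i
    refine ⟨algebraMap R Rz r * ↑hu.unit⁻¹, ((IsLocalization.Away.algebraMap_isUnit (π z)).pow i).mul_left_injective ?_⟩
    show πz _ * algebraMap S Sz (π z) ^ i = w * algebraMap S Sz (π z) ^ i
    rw [hw, ← hπz z, ← map_pow πz, ← map_mul πz, mul_assoc, IsUnit.val_inv_mul, mul_one, hπz]
  rw [pow_two, Ideal.zero_eq_bot, eq_bot_iff, Ideal.mul_le]
  intro a ha b hb
  have hkill : ∀ c : Rz, c ∈ RingHom.ker πz → ∃ (e i : ℕ) (t : R),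
      c * algebraMap R Rz z ^ i = algebraMap R Rz t ∧ π (z ^ e * t) = 0 := by
    intro c hck
    obtain ⟨i, t, hc⟩ := IsLocalization.Away.surj z c
    have h1 : algebraMap S Sz (π t) = 0 := by rw [← hπz, ← hc, map_mul, show πz c = 0 from hck, zero_mul]
    obtain ⟨⟨w, e, rfl⟩, he⟩ := (IsLocalization.map_eq_zero_iff (Submonoid.powers (π z)) Sz _).1 h1
    exact ⟨e, i, t, hc, by rw [map_mul, map_pow]; exact he⟩
  obtain ⟨e, i, r, hr, he⟩ := hkill a ha
  obtain ⟨e', i', r', hr', he'⟩ := hkill b hb
  have hu : IsUnit (algebraMap R Rz z ^ (i + i' + e + e')) := (IsLocalization.Away.algebraMap_isUnit z).pow _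
  rw [Ideal.mem_bot]
  apply hu.mul_left_injective
  show a * b * _ = 0 * _
  rw [zero_mul, show a * b * algebraMap R Rz z ^ (i + i' + e + e') =
    (a * algebraMap R Rz z ^ i) * (b * algebraMap R Rz z ^ i') * (algebraMap R Rz z ^ e * algebraMap R Rz z ^ e') by
      ring, hr, hr', ← map_pow, ← map_pow, ← map_mul, ← map_mul, ← map_mul,
    show r * r' * (z ^ e * z ^ e') = (z ^ e * r) * (z ^ e' * r') by ring, hker _ _ he he', map_zero]

omit hB in
theorem dvd_pow_of_cross {R : Type u} [CommRing R] {x y : R} (hx : IsRegular x) (hxy : ∀ r, x ∣ y * r → x ∣ r)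
    (i : ℕ) : ∀ (j : ℕ) (a c : R), y ^ j * a = x ^ i * c → x ^ i ∣ a := by
  have key : ∀ (i : ℕ) (a : R), x ^ i ∣ y * a → x ^ i ∣ a := by
    intro i
    induction i with
    | zero => intro a _; simp
    | succ i ih =>
      intro a hd
      obtain ⟨a', rfl⟩ := ih a ((pow_dvd_pow x (Nat.le_succ i)).trans hd)
      obtain ⟨d, hd'⟩ := hd
      have h3 : y * a' = x * d := (hx.pow i).left (by rw [pow_succ] at hd'; linear_combination hd')
      obtain ⟨a'', rfl⟩ := hxy a' ⟨d, h3⟩
      exact ⟨a'', by rw [pow_succ]; ring⟩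
  intro j
  induction j with
  | zero => intro a c h; exact ⟨c, by simpa using h⟩
  | succ j ih =>
    intro a c h
    obtain ⟨d, hd⟩ := key i (y ^ j * a) ⟨c, by rw [← h, pow_succ', mul_assoc]⟩
    exact ih a d hd

omit hB in
/-- Factor a hom through a subring. -/
theorem exists_hom_of_range {R T C : Type u} [CommRing R] [CommRing T] [CommRing C] [Algebra A R] [Algebra A T]
    [Algebra A C] (e : R →ₐ[A] T) (he : Function.Injective e) (h : C →ₐ[A] T) (hr : ∀ c, ∃ r, e r = h c) :
    ∃ h' : C →ₐ[A] R, e.comp h' = h := by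
  choose v hv using hr
  exact ⟨{ toFun := v
           map_one' := he (by rw [hv, map_one, map_one])
           map_mul' := fun b b' => he (by rw [map_mul, hv, hv, hv, map_mul])
           map_zero' := he (by rw [hv, map_zero, map_zero])
           map_add' := fun b b' => he (by rw [map_add, hv, hv, hv, map_add])
           commutes' := fun a => he (by rw [hv, AlgHom.commutes, AlgHom.commutes]) }, AlgHom.ext hv⟩

omit hB in
/-- A ring map compatible with the localisation maps is a map of algebras. -/
noncomputable def algHomOfCompat {R S T U : Type u} [CommRing R] [CommRing S] [CommRing T] [CommRing U] [Algebra A R]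
    [Algebra A S] [Algebra R T] [Algebra A T] [IsScalarTower A R T] [Algebra S U] [Algebra A U] [IsScalarTower A S U]
    (π : R →ₐ[A] S) (ρ : T →+* U) (h : ∀ r, ρ (algebraMap R T r) = algebraMap S U (π r)) : T →ₐ[A] U :=
  AlgHom.mk ρ fun a => by
    show ρ (algebraMap A T a) = _
    rw [IsScalarTower.algebraMap_apply A R T, h, AlgHom.commutes, ← IsScalarTower.algebraMap_apply A S U]

set_option maxHeartbeats 2000000 in
/-- Lifting across a square-zero thickening of depth two. -/
theorem exists_lift_glue {R S : Type u} [CommRing R] [IsNoetherianRing R] [Algebra A R] [CommRing S] [Algebra A S]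
    (π : R →ₐ[A] S) (hπ : Function.Surjective π)
    (hker : ∀ r r' : R, π r = 0 → π r' = 0 → r * r' = 0)
    {x₀ y₀ : A} (hx₀ : x₀ ∈ maximalIdeal A) (hy₀ : y₀ ∈ maximalIdeal A)
    (hx : ∀ r : R, algebraMap A R x₀ * r = 0 → r = 0) (hy : ∀ r : R, algebraMap A R y₀ * r = 0 → r = 0)
    (hxy : ∀ r : R, algebraMap A R x₀ ∣ algebraMap A R y₀ * r → algebraMap A R x₀ ∣ r)
    (hxS : ∀ s : S, algebraMap A S x₀ * s = 0 → s = 0)
    (g : B →ₐ[A] S) : ∃ h : B →ₐ[A] R, π.comp h = g := by
  let x := algebraMap A R x₀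
  let y := algebraMap A R y₀
  have hloc : ∀ (z₀ : A), z₀ ∈ maximalIdeal A → ∀ (gz : B →ₐ[A] S),
      ∃ h : B →ₐ[A] Localization.Away (algebraMap A R z₀), ∀ (b : B) (r : R) (i : ℕ),
        h b * algebraMap R _ (algebraMap A R z₀) ^ i = algebraMap R _ r →
          ∃ j, algebraMap A S z₀ ^ j * (gz b * algebraMap A S z₀ ^ i) = algebraMap A S z₀ ^ j * π r := by
    intro z₀ hz₀ gz
    let z := algebraMap A R z₀
    let Rz := Localization.Away z
    let Sz := Localization.Away (π z)
    haveI : IsNoetherianRing Rz := IsLocalization.isNoetherianRing (Submonoid.powers z) _ inferInstance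
    obtain ⟨πz, hπz', hs, hk⟩ := away_thickening π.toRingHom hπ hker z Rz Sz
    have hπz : ∀ r, πz (algebraMap R Rz r) = algebraMap S Sz (π r) := hπz'
    let πa : Rz →ₐ[A] Sz := algHomOfCompat π πz hπz
    obtain ⟨h, hh⟩ := exists_lift_off hB
      (fun q _ => off_of_isUnit z₀ hz₀ (by
        rw [IsScalarTower.algebraMap_apply A R Rz]; exact IsLocalization.Away.algebraMap_isUnit z) q)
      πa hs hk ((IsScalarTower.toAlgHom A S Sz).comp gz)
    refine ⟨h, fun b r i hr => ?_⟩
    have h1 : algebraMap S Sz (gz b * π z ^ i) = algebraMap S Sz (π r) := by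
      rw [← hπz r, ← hr, map_mul, map_mul, map_pow, map_pow, hπz]
      exact congrArg (· * _) (DFunLike.congr_fun hh b).symm
    obtain ⟨⟨w, j, rfl⟩, hj⟩ := IsLocalization.exists_of_eq (M := Submonoid.powers (π z)) h1
    exact ⟨j, by simpa [z, AlgHom.commutes] using hj⟩
  obtain ⟨hX, hXs⟩ := hloc x₀ hx₀ g
  obtain ⟨hY, hYs⟩ := hloc y₀ hy₀ g
  let Rxy := Localization.Away (x * y)
  haveI : IsNoetherianRing Rxy := IsLocalization.isNoetherianRing (Submonoid.powers (x * y)) _ inferInstance
  have hprod : IsUnit (algebraMap R Rxy x * algebraMap R Rxy y) := by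
    simpa only [map_mul] using IsLocalization.Away.algebraMap_isUnit (S := Rxy) (x * y)
  have hux : IsUnit (algebraMap R Rxy x) := isUnit_of_mul_isUnit_left hprod
  have huy : IsUnit (algebraMap R Rxy y) := isUnit_of_mul_isUnit_right hprod
  let ρx : Localization.Away x →+* Rxy := IsLocalization.Away.lift x hux
  let ρy : Localization.Away y →+* Rxy := IsLocalization.Away.lift y huy
  have hρx : ∀ r, ρx (algebraMap R _ r) = algebraMap R Rxy r := fun r => IsLocalization.Away.lift_eq x hux r
  have hρy : ∀ r, ρy (algebraMap R _ r) = algebraMap R Rxy r := fun r => IsLocalization.Away.lift_eq y huy r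
  let ρxa : Localization.Away x →ₐ[A] Rxy := algHomOfCompat (AlgHom.id A R) ρx hρx
  let ρya : Localization.Away y →ₐ[A] Rxy := algHomOfCompat (AlgHom.id A R) ρy hρy
  let Sxy := Localization.Away (π (x * y))
  obtain ⟨πxy, hπxy', -, hkxy⟩ := away_thickening π.toRingHom hπ hker (x * y) Rxy Sxy
  have hπxy : ∀ r, πxy (algebraMap R Rxy r) = algebraMap S Sxy (π r) := hπxy'
  have huSx : IsUnit (algebraMap S Sxy (π x)) := by rw [← hπxy]; exact hux.map _
  have huSy : IsUnit (algebraMap S Sxy (π y)) := by rw [← hπxy]; exact huy.map _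
  have hsame : ρxa.comp hX = ρya.comp hY := by
    refine hom_ext_off hB (fun q _ => off_of_isUnit x₀ hx₀ (by
      rw [IsScalarTower.algebraMap_apply A R Rxy]; exact hux) q) πxy ?_ _ _ fun b => ?_
    · exact hkxy
    · suffices key : ∀ (z₀ : A) (hz : Localization.Away (algebraMap A R z₀) →+* Rxy)
          (_ : ∀ r, hz (algebraMap R _ r) = algebraMap R Rxy r)
          (_ : IsUnit (algebraMap S Sxy (π (algebraMap A R z₀))))
          (h : B →ₐ[A] Localization.Away (algebraMap A R z₀)),
          (∀ (b : B) (r : R) (i : ℕ), h b * algebraMap R _ (algebraMap A R z₀) ^ i = algebraMap R _ r →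
            ∃ j, algebraMap A S z₀ ^ j * (g b * algebraMap A S z₀ ^ i) = algebraMap A S z₀ ^ j * π r) →
          πxy (hz (h b)) = algebraMap S Sxy (g b) from
        (key x₀ ρx hρx huSx hX hXs).trans (key y₀ ρy hρy huSy hY hYs).symm
      intro z₀ hz hzr hu h hs
      obtain ⟨⟨r, m⟩, hr⟩ := IsLocalization.surj (Submonoid.powers (algebraMap A R z₀)) (h b)
      obtain ⟨i, hi⟩ := m.2
      have hr' : h b * algebraMap R _ (algebraMap A R z₀) ^ i = algebraMap R _ r := by
        rw [← map_pow]; exact (congrArg (fun t => h b * algebraMap R _ t) hi).trans hr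
      obtain ⟨j, hj⟩ := hs b r i hr'
      have h1 := congrArg (fun t => πxy (hz t)) hr'
      simp only [map_mul, map_pow, hzr, hπxy] at h1
      have h2 := congrArg (algebraMap S Sxy) hj
      simp only [map_mul, map_pow, ← AlgHom.commutes π z₀] at h2
      apply (hu.pow i).mul_left_injective
      show πxy (hz (h b)) * _ = algebraMap S Sxy (g b) * _
      rw [h1]
      exact ((hu.pow j).mul_right_injective h2).symm
  have hex : ∀ b, ∃ r : R, algebraMap R (Localization.Away x) r = hX b := by
    intro b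
    obtain ⟨⟨a, m⟩, ha⟩ := IsLocalization.surj (Submonoid.powers x) (hX b)
    obtain ⟨⟨c, n⟩, hc⟩ := IsLocalization.surj (Submonoid.powers y) (hY b)
    obtain ⟨i, hi⟩ := m.2
    obtain ⟨j, hj⟩ := n.2
    have e : algebraMap R Rxy (y ^ j * a) = algebraMap R Rxy (x ^ i * c) := by
      have hb : ρx (hX b) = ρy (hY b) := DFunLike.congr_fun hsame b
      have h1 := congrArg ρx ha
      have h2 := congrArg ρy hc
      rw [map_mul, hρx, hρx, ← hi] at h1
      rw [map_mul, hρy, hρy, ← hj] at h2
      simp only [map_mul, map_pow] at h1 h2 ⊢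
      rw [← h1, ← h2, hb]
      ring
    obtain ⟨⟨w, l, rfl⟩, hl⟩ := IsLocalization.exists_of_eq (M := Submonoid.powers (x * y)) e
    have hxyreg : IsRegular (x * y) :=
      IsRegular.mul (isRegular_iff_mem_nonZeroDivisors.2 (mem_nonZeroDivisors_iff_right.2 fun r hr => hx r (by rwa [mul_comm])))
        (isRegular_iff_mem_nonZeroDivisors.2 (mem_nonZeroDivisors_iff_right.2 fun r hr => hy r (by rwa [mul_comm])))
    have heq : y ^ j * a = x ^ i * c := (hxyreg.pow l).left hl
    have hdiv : x ^ i ∣ a := dvd_pow_of_cross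
      (isRegular_iff_mem_nonZeroDivisors.2 (mem_nonZeroDivisors_iff_right.2 fun r hr => hx r (by rwa [mul_comm])))
      hxy i j a c heq
    obtain ⟨r, rfl⟩ := hdiv
    refine ⟨r, ?_⟩
    have hu : IsUnit (algebraMap R (Localization.Away x) x ^ i) := (IsLocalization.Away.algebraMap_isUnit x).pow i
    apply hu.mul_left_injective
    show algebraMap R _ r * algebraMap R _ x ^ i = hX b * algebraMap R _ x ^ i
    rw [← map_pow, ← map_mul, mul_comm r, ← ha]
    exact congrArg (fun t => hX b * algebraMap R _ t) hi.symm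
  have hinj : Function.Injective (algebraMap R (Localization.Away x)) :=
    IsLocalization.injective _ (Submonoid.powers_le.2 (mem_nonZeroDivisors_iff_right.2 fun r hr => hx r (by rwa [mul_comm])))
  obtain ⟨h, hh⟩ := exists_hom_of_range (IsScalarTower.toAlgHom A R (Localization.Away x)) hinj hX hex
  refine ⟨h, AlgHom.ext fun b => ?_⟩
  obtain ⟨j, hj⟩ := hXs b (h b) 0 (by rw [pow_zero, mul_one]; exact (DFunLike.congr_fun hh b).symm)
  have hxreg : IsRegular (algebraMap A S x₀) := isRegular_iff_mem_nonZeroDivisors.2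
    (mem_nonZeroDivisors_iff_right.2 fun r hr => hxS r (by rwa [mul_comm]))
  rw [pow_zero, mul_one] at hj
  exact ((hxreg.pow j).left hj).symm

end PurityLib
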