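import Groth.Agent.PurityLib.Prep
import Groth.Agent.PurityLib.Lift
import Groth.Agent.HenselLib.Local
import Groth.Agent.CompleteLib.Basic
import Mathlib.RingTheory.AdicCompletion.RingHom
import Mathlib.LinearAlgebra.Matrix.Charpoly.LinearMap

/-!
# Zariski–Nagata purity, algebraic form
-/

set_option autoImplicit false
set_option linter.style.haveILetI false
set_option linter.unusedSectionVars false

universe u

open scoped TensorProduct
open IsLocalRing

namespace PurityLib

variable {A : Type u} [CommRing A]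

theorem killed_of_divisible {M : Type u} [AddCommGroup M] [Module A M] [Module.Finite A M] (q : Ideal A) [q.IsPrime]
    {f : A} (hf : f ∈ q) (h : ∀ e : M, ∃ u ∉ q, ∃ e' : M, u • e = f • e') : ∀ e : M, ∃ u ∉ q, u • e = 0 := by
  classical
  obtain ⟨S, hS⟩ := Module.Finite.fg_top (R := A) (M := M)
  choose u hu e' he' using h
  let U := ∏ s ∈ S, u s
  have hU : U ∉ q := fun hmem => by
    obtain ⟨s, -, hs⟩ := (Ideal.IsPrime.prod_mem_iff).1 hmem
    exact hu s hs
  have hr : LinearMap.range (U • (LinearMap.id : M →ₗ[A] M)) ≤ q • ⊤ := by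
    rintro _ ⟨e, rfl⟩
    suffices H : (⊤ : Submodule A M) ≤ (q • ⊤ : Submodule A M).comap (U • LinearMap.id) from H Submodule.mem_top
    refine le_trans hS.ge (Submodule.span_le.2 fun s hs => ?_)
    show U • s ∈ (q • ⊤ : Submodule A M)
    rw [show U = (∏ t ∈ S.erase s, u t) * u s from (Finset.prod_erase_mul _ _ hs).symm, mul_smul, he',
      smul_comm]
    exact Submodule.smul_mem_smul hf Submodule.mem_top
  obtain ⟨P, hP, -, hdeg, hPq, hP0⟩ : ∃ P : Polynomial A, P.Monic ∧ True ∧ True ∧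
      (∀ k, k < P.natDegree → P.coeff k ∈ q) ∧ Polynomial.aeval (U • (LinearMap.id : M →ₗ[A] M)) P = 0 := by
    obtain ⟨P, h1, -, h2, h3⟩ :=
      LinearMap.exists_monic_and_natDegree_eq_and_coeff_mem_pow_and_aeval_eq_zero A
        (U • (LinearMap.id : M →ₗ[A] M)) q hr
    exact ⟨P, h1, trivial, trivial,
      fun k hk => Ideal.pow_le_self (Nat.sub_ne_zero_of_lt hk) (h2 k), h3⟩
  have hPU : Polynomial.eval U P ∉ q := by
    intro hmem
    rw [Polynomial.eval_eq_sum_range, Finset.sum_range_succ, hP.coeff_natDegree, one_mul] at hmem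
    have h1 : U ^ P.natDegree ∈ q := (Submodule.add_mem_iff_right q
      (Ideal.sum_mem q fun k hk => Ideal.mul_mem_right _ _ (hPq k (Finset.mem_range.1 hk)))).1 hmem
    exact hU (Ideal.IsPrime.mem_of_pow_mem inferInstance _ h1)
  intro e
  refine ⟨_, hPU, ?_⟩
  have h1 := LinearMap.congr_fun hP0 e
  rw [show (U • (LinearMap.id : M →ₗ[A] M)) = algebraMap A (Module.End A M) U from
    (Algebra.algebraMap_eq_smul_one U).symm, Polynomial.aeval_algebraMap_apply] at h1
  simpa using h1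

variable [IsDomain A]

theorem dvd_pow_step {f x y : A} (hf : Prime f) (hfx : ¬ f ∣ x) (hP : (Ideal.span {f, x}).IsPrime)
    (hy : y ∉ Ideal.span {f, x}) :
    ∀ (k : ℕ) (a b c : A), y * a = x * b + f ^ k * c → ∃ a' c', a = x * a' + f ^ k * c' := by
  intro k
  induction k with
  | zero => exact fun a b c _ => ⟨0, a, by ring⟩
  | succ k ih =>
    intro a b c h
    obtain ⟨a₁, c₁, rfl⟩ := ih a b (f * c) (by rw [h, pow_succ]; ring)
    have h1 : f ^ k ∣ x * (y * a₁ - b) := ⟨f * c - y * c₁, by rw [pow_succ] at h; linear_combination h⟩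
    obtain ⟨e, he⟩ := hf.pow_dvd_of_dvd_mul_left k hfx h1
    have h2 : y * c₁ + x * e = f * c := by
      apply mul_left_cancel₀ (pow_ne_zero k hf.ne_zero)
      rw [pow_succ] at h
      linear_combination h - x * he
    have h3 : y * c₁ ∈ Ideal.span {f, x} :=
      Ideal.mem_span_pair.2 ⟨c, -e, by linear_combination -h2⟩
    obtain ⟨g, h', hgh⟩ := Ideal.mem_span_pair.1 ((hP.mem_or_mem h3).resolve_left hy)
    exact ⟨a₁ + f ^ k * h', g, by rw [← hgh, pow_succ]; ring⟩

variable [IsLocalRing A] [IsNoetherianRing A] {B : Type u} [CommRing B] [Algebra A B] [Module.Finite A B]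
  (hB : ∀ (p : Ideal A) [p.IsPrime], p ≠ maximalIdeal A → EtAt p B)

include hB

/-- Points modulo a good parameter lift uniquely. -/
theorem exists_lift_point {f x y : A} (hcomp : IsAdicComplete (Ideal.span {f}) A) (hf : Prime f) (hfx : ¬ f ∣ x)
    (hP : (Ideal.span {f, x}).IsPrime) (hy : y ∉ Ideal.span {f, x}) (hxm : x ∈ maximalIdeal A)
    (hym : y ∈ maximalIdeal A) (π : B →ₐ[A] A ⧸ Ideal.span {f}) :
    ∃ ψ : B →ₐ[A] A, ∀ b, Ideal.Quotient.mk (Ideal.span {f}) (ψ b) = π b := by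
  classical
  let I := Ideal.span {f}
  have hfy : ¬ f ∣ y := fun ⟨c, hc⟩ => hy (by rw [hc]; exact Ideal.mul_mem_right _ _ (Ideal.subset_span (by simp)))
  have hmem : ∀ (n : ℕ) (a : A), a ∈ I ^ n ↔ f ^ n ∣ a := fun n a => by
    rw [Ideal.span_singleton_pow, Ideal.mem_span_singleton]
  have hreg : ∀ (n : ℕ) (z : A), ¬ f ∣ z → ∀ r : A ⧸ I ^ n, algebraMap A (A ⧸ I ^ n) z * r = 0 → r = 0 := by
    intro n z hz r hr
    obtain ⟨a, rfl⟩ := Ideal.Quotient.mk_surjective r
    rw [Ideal.Quotient.algebraMap_eq, ← map_mul, Ideal.Quotient.eq_zero_iff_mem, hmem] at hr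
    rw [Ideal.Quotient.eq_zero_iff_mem, hmem]
    exact hf.pow_dvd_of_dvd_mul_left n hz hr
  have step : ∀ (n : ℕ) (g : B →ₐ[A] A ⧸ I ^ (n + 1)), ∃ h : B →ₐ[A] A ⧸ I ^ (n + 1 + 1),
      (Ideal.Quotient.factorₐ A (Ideal.pow_le_pow_right (Nat.le_add_right (n + 1) 1))).comp h = g := by
    intro n g
    refine exists_lift_glue hB (Ideal.Quotient.factorₐ A (Ideal.pow_le_pow_right (Nat.le_add_right (n + 1) 1)))
      (Ideal.Quotient.factor_surjective (Ideal.pow_le_pow_right (Nat.le_add_right (n + 1) 1))) ?_ hxm hym (hreg _ x hfx) (hreg _ y hfy) ?_ (hreg _ x hfx) g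
    · intro r r' hr hr'
      obtain ⟨a, rfl⟩ := Ideal.Quotient.mk_surjective r
      obtain ⟨a', rfl⟩ := Ideal.Quotient.mk_surjective r'
      have ha : a ∈ I ^ (n + 1) := Ideal.Quotient.eq_zero_iff_mem.1 hr
      have ha' : a' ∈ I ^ (n + 1) := Ideal.Quotient.eq_zero_iff_mem.1 hr'
      rw [← map_mul, Ideal.Quotient.eq_zero_iff_mem]
      have h2 := Ideal.mul_mem_mul ha ha'
      rw [← pow_add] at h2
      exact Ideal.pow_le_pow_right (by omega) h2
    · intro r ⟨s, hs⟩
      obtain ⟨a, rfl⟩ := Ideal.Quotient.mk_surjective r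
      obtain ⟨b, rfl⟩ := Ideal.Quotient.mk_surjective s
      rw [Ideal.Quotient.algebraMap_eq, ← map_mul, ← map_mul, Ideal.Quotient.eq, hmem] at hs
      obtain ⟨c, hc⟩ := hs
      obtain ⟨a', c', ha⟩ := dvd_pow_step hf hfx hP hy (n + 1 + 1) a b c (by linear_combination hc)
      refine ⟨Ideal.Quotient.mk _ a', ?_⟩
      rw [Ideal.Quotient.algebraMap_eq, ← map_mul, Ideal.Quotient.eq, hmem]
      exact ⟨c', by rw [ha]; ring⟩
  choose next hnext using step
  let g₀ : B →ₐ[A] A ⧸ I ^ (0 + 1) :=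
    ((Ideal.quotientEquivAlgOfEq A (show Ideal.span {f} = I ^ (0 + 1) by rw [zero_add, pow_one])).toAlgHom).comp π
  let G : ∀ n, B →ₐ[A] A ⧸ I ^ (n + 1) := fun n =>
    Nat.rec (motive := fun n => B →ₐ[A] A ⧸ I ^ (n + 1)) g₀ (fun n g => next n g) n
  let F : ∀ n, B →ₐ[A] A ⧸ I ^ n := fun n =>
    (Ideal.Quotient.factorₐ A (Ideal.pow_le_pow_right (Nat.le_add_right n 1))).comp (G n)
  have hGle : ∀ (d m : ℕ), (Ideal.Quotient.factorₐ A (Ideal.pow_le_pow_right (show m + 1 ≤ m + d + 1 by omega))).comp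
      (G (m + d)) = G m := by
    intro d
    induction d with
    | zero => intro m; ext b; obtain ⟨a, ha⟩ := Ideal.Quotient.mk_surjective (G m b); simp [← ha]
    | succ d ih =>
      intro m
      refine AlgHom.ext fun b => ?_
      have h1 : Ideal.Quotient.factorₐ A (Ideal.pow_le_pow_right (Nat.le_add_right (m + d + 1) 1)) (G (m + d + 1) b) =
          G (m + d) b := DFunLike.congr_fun (hnext (m + d) (G (m + d))) b
      have h2 := DFunLike.congr_fun (ih m) b
      rw [AlgHom.comp_apply] at h2 ⊢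
      rw [← h1] at h2
      obtain ⟨a, ha⟩ := Ideal.Quotient.mk_surjective (G (m + d + 1) b)
      rw [← ha] at h2
      show Ideal.Quotient.factorₐ A _ (G (m + d + 1) b) = _
      rw [← ha]
      exact h2
  have hF : ∀ {m n : ℕ} (hle : m ≤ n),
      (Ideal.Quotient.factorₐ A (Ideal.pow_le_pow_right hle)).comp (F n) = F m := by
    intro m n hle
    obtain ⟨d, rfl⟩ := Nat.le.dest hle
    refine AlgHom.ext fun b => ?_
    have h2 := DFunLike.congr_fun (hGle d m) b
    obtain ⟨a, ha⟩ := Ideal.Quotient.mk_surjective (G (m + d) b)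
    simp only [F, AlgHom.comp_apply, ← ha] at h2 ⊢
    rw [← h2]
    rfl
  have hF' : ∀ {m n : ℕ} (hle : m ≤ n),
      (Ideal.Quotient.factor (Ideal.pow_le_pow_right hle)).comp (F n).toRingHom = (F m).toRingHom := fun hle =>
    RingHom.ext fun b => DFunLike.congr_fun (hF hle) b
  let ψ : B →ₐ[A] A :=
    { IsAdicComplete.liftRingHom I (fun n => (F n).toRingHom) hF' with
      commutes' := fun a => by
        refine sub_eq_zero.1 (IsHausdorff.haus' (I := I) _ fun n => ?_)
        rw [SModEq.zero, smul_eq_mul, Ideal.mul_top, ← Ideal.Quotient.eq_zero_iff_mem, map_sub, sub_eq_zero]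
        exact (IsAdicComplete.mk_liftRingHom I (fun n => (F n).toRingHom) hF' n _).trans ((F n).commutes a) }
  refine ⟨ψ, fun b => ?_⟩
  have h1 : Ideal.Quotient.mk (I ^ (0 + 1)) (ψ b) = F (0 + 1) b := IsAdicComplete.mk_liftRingHom I (fun n => (F n).toRingHom) hF' (0 + 1) b
  have h2 := DFunLike.congr_fun (hGle 1 0) b
  rw [show F (0 + 1) b = G 0 b from h2] at h1
  obtain ⟨a, ha⟩ := Ideal.Quotient.mk_surjective (π b)
  rw [← ha]
  have h3 : G 0 b = Ideal.Quotient.mk (I ^ (0 + 1)) a := by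
    show Ideal.quotientEquivAlgOfEq A (show Ideal.span {f} = I ^ (0 + 1) by rw [zero_add, pow_one]) (π b) = _
    rw [← ha]
    rfl
  rw [h3, Ideal.Quotient.eq, zero_add, pow_one] at h1
  exact Ideal.Quotient.eq.2 h1

end PurityLib
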