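import Groth.Agent.PurityLib.Galois
import Groth.Agent.S11137
import Groth.Agent.HenselLib.Normal
import Groth.Agent.WildQuotLib.Origin
import Mathlib.FieldTheory.Galois.Basic
import Mathlib.RingTheory.LocalRing.Quotient
import Mathlib.RingTheory.Ideal.KrullsHeightTheorem
import Mathlib.Algebra.Ring.Action.Subobjects

/-!
# Extending automorphisms of invariant rings of actions ramified at the origin
-/

set_option autoImplicit false
set_option linter.style.haveILetI false
set_option linter.unusedSectionVars false

universe u w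

open IsLocalRing Polynomial
open scoped Pointwise

namespace PurityLib

theorem exists_hom_extend {R S : Type u} [CommRing R] [IsDomain R] [CommRing S] [IsDomain S] [Algebra R S]
    [Algebra.IsIntegral R S] (hRS : Function.Injective (algebraMap R S)) {M : Type u} [Field M] [IsAlgClosed M]
    (f : R →+* M) (hf : Function.Injective f) : ∃ j : S →+* M, ∀ r, j (algebraMap R S r) = f r := by
  letI := f.toAlgebra
  haveI : FaithfulSMul R M := (faithfulSMul_iff_algebraMap_injective R M).2 hf
  haveI : FaithfulSMul R S := (faithfulSMul_iff_algebraMap_injective R S).2 hRS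
  exact ⟨(IsAlgClosed.lift : S →ₐ[R] M).toRingHom, (IsAlgClosed.lift : S →ₐ[R] M).commutes⟩

variable {A : Type u} [CommRing A] [IsRegularLocalRing A] [IsAdicComplete (maximalIdeal A) A]
  {G : Type w} [Group G] [Finite G] [MulSemiringAction G A]

set_option synthInstance.maxHeartbeats 200000 in
set_option maxHeartbeats 2000000 in
/-- Purity: an automorphism of the invariants lifts to an endomorphism of the ring. -/
theorem exists_endo_extend (hdim : (2 : WithBot ℕ∞) ≤ ringKrullDim A) (hp : (Nat.card G).Prime)
    (hram : ∀ P : Ideal A, P.IsPrime → P ≠ maximalIdeal A → P.inertia G = ⊥)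
    (hres : ∀ (l : Type u) [Field l] [Algebra (ResidueField A) l], IsGalois (ResidueField A) l →
      Module.finrank (ResidueField A) l ≠ Nat.card G)
    (f : FixedPoints.subring A G ≃+* FixedPoints.subring A G) :
    ∃ ψ : A →+* A, Function.Injective ψ ∧ ∀ b : FixedPoints.subring A G, ψ b = f b := by
  classical
  cases nonempty_fintype G
  haveI : IsDomain A := CommAlgDim.isDomain_of_isRegularLocalRing A
  haveI : IsIntegrallyClosed A := NormalLib.isIntegrallyClosed_of_isRegularLocalRing A
  let R := FixedPoints.subring A G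
  haveI : SMulCommClass G R A := ⟨fun g a x => by
    show g • ((a : A) * x) = (a : A) * g • x
    rw [smul_mul', a.2 g]⟩
  haveI : Algebra.IsInvariant R A G := ⟨fun a ha => ⟨⟨a, ha⟩, rfl⟩⟩
  haveI : Algebra.IsIntegral R A := Algebra.IsInvariant.isIntegral R A G
  have hne : (⊥ : Ideal A) ≠ maximalIdeal A := fun h => by
    rw [← maximalIdeal_height_eq_ringKrullDim, ← h, Ideal.height_bot] at hdim
    exact absurd (WithBot.coe_le_coe.1 hdim) (by norm_num)
  haveI : Infinite A := by
    by_contra hinf
    haveI : Finite A := not_infinite_iff_finite.1 hinf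
    exact hne (IsLocalRing.isField_iff_maximalIdeal_eq.1 (Finite.isField_of_domain A)).symm
  have hfaith : ∀ g : G, (∀ a : A, g • a = a) → g = 1 := fun g hg => by
    have h1 : g ∈ (⊥ : Ideal A).inertia G := fun a => by rw [hg a, sub_self]; exact zero_mem _
    rwa [hram ⊥ Ideal.isPrime_bot hne, Subgroup.mem_bot] at h1
  let K := FractionRing A
  let Ω := AlgebraicClosure K
  let ι : A →+* Ω := algebraMap A Ω
  have hι : Function.Injective ι := by
    rw [show ι = (algebraMap K Ω).comp (algebraMap A K) from IsScalarTower.algebraMap_eq A K Ω]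
    exact (algebraMap K Ω).injective.comp (IsFractionRing.injective A K)
  obtain ⟨j, hj⟩ := exists_hom_extend (R := R) (S := A) Subtype.val_injective
    ((ι.comp (algebraMap R A)).comp f.toRingHom) (hι.comp (Subtype.val_injective.comp f.injective))
  have hj' : ∀ b : R, j b = ι (f b) := hj
  have hjinj : Function.Injective j := by
    rw [RingHom.injective_iff_ker_eq_bot]
    refine Ideal.eq_bot_of_comap_eq_bot (R := R) (eq_bot_iff.2 fun b hb => ?_)
    have h1 : ι (f b) = 0 := (hj' b).symm.trans hb
    exact f.injective ((Subtype.val_injective (hι (h1.trans (map_zero ι).symm))).trans (map_zero f).symm)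
  have hfix : ∀ (x : A), (∀ g : G, g • x = x) → ∃ y : A, j x = ι y := fun x hx =>
    ⟨(f ⟨x, hx⟩ : R), hj' ⟨x, hx⟩⟩
  have hint : ∀ a : A, IsIntegral A (j a) := fun a => by
    obtain ⟨P, hP, hPa⟩ := Algebra.IsIntegral.isIntegral (R := R) a
    refine ⟨P.map ((algebraMap R A).comp f.toRingHom), hP.map _, ?_⟩
    rw [eval₂_map]
    have h2 : ι.comp ((algebraMap R A).comp f.toRingHom) = j.comp (algebraMap R A) :=
      RingHom.ext fun b => (hj' b).symm
    show eval₂ (ι.comp _) (j a) P = 0
    rw [h2, ← hom_eval₂, hPa, map_zero]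
  by_cases hcase : ∀ a : A, j a ∈ Set.range ι
  · choose v hv using hcase
    exact ⟨{ toFun := v
             map_one' := hι (by rw [hv, map_one, map_one])
             map_mul' := fun a b => hι (by rw [map_mul, hv, hv, hv, map_mul])
             map_zero' := hι (by rw [hv, map_zero, map_zero])
             map_add' := fun a b => hι (by rw [map_add, hv, hv, hv, map_add]) },
      fun a b hab => hjinj (by rw [← hv, ← hv]; exact congrArg ι hab),
      fun b => hι (by rw [← hj' b]; exact hv _)⟩
  exfalso
  obtain ⟨a₀, ha₀⟩ := not_forall.1 hcase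
  have hperm : ∀ τ : Ω →+* Ω, (∀ x : A, τ (ι x) = ι x) → ∃ g : G, ∀ a, τ (j a) = j (g • a) := fun τ hτ =>
    exists_smul_of_eqOn j (τ.comp j) hjinj fun b hb => by
      obtain ⟨y, hy⟩ := hfix b hb
      show τ (j b) = j b
      rw [hy, hτ]
  let L : IntermediateField K Ω := IntermediateField.adjoin K (Set.range j)
  have hjL : ∀ a, j a ∈ L := fun a => IntermediateField.subset_adjoin K _ ⟨a, rfl⟩
  haveI : Normal K L := IntermediateField.normal_iff_forall_map_le'.2 fun σ => by
    rw [IntermediateField.adjoin_map]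
    refine IntermediateField.adjoin.mono K _ _ ?_
    rintro _ ⟨_, ⟨a, rfl⟩, rfl⟩
    obtain ⟨g, hg⟩ := hperm σ.toRingEquiv.toRingHom fun x => by
      show σ (algebraMap A Ω x) = algebraMap A Ω x
      rw [IsScalarTower.algebraMap_apply A K Ω, σ.commutes]
    exact ⟨g • a, (hg a).symm⟩
  haveI : Algebra.IsSeparable K L := by
    refine (IntermediateField.isSeparable_adjoin_iff_isSeparable K Ω).2 ?_
    rintro _ ⟨a, rfl⟩
    let O := Finset.univ.image fun g : G => g • a
    let P : A[X] := ∏ y ∈ O, (X - C y)
    have hPfix : ∀ g : G, g • P = P := fun g => by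
      simp only [P, Finset.smul_prod', smul_sub, smul_X, smul_C]
      refine Finset.prod_bij (fun y _ => g • y) (fun y hy => ?_) (fun y _ y' _ h => MulAction.injective g h)
        (fun y hy => ?_) fun y _ => rfl
      · obtain ⟨g', -, rfl⟩ := Finset.mem_image.1 hy
        exact Finset.mem_image.2 ⟨g * g', Finset.mem_univ _, mul_smul g g' a⟩
      · obtain ⟨g', -, rfl⟩ := Finset.mem_image.1 hy
        exact ⟨(g⁻¹ * g') • a, Finset.mem_image.2 ⟨_, Finset.mem_univ _, rfl⟩, by
          rw [← mul_smul, mul_inv_cancel_left]⟩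
    have hlift : P.map j ∈ Polynomial.lifts (algebraMap K Ω) := by
      refine (Polynomial.lifts_iff_coeff_lifts _).2 fun n => ?_
      obtain ⟨y, hy⟩ := hfix (P.coeff n) fun g => by rw [← Polynomial.coeff_smul, hPfix g]
      refine ⟨algebraMap A K y, ?_⟩
      rw [coeff_map, hy]
      exact (IsScalarTower.algebraMap_apply A K Ω y).symm
    obtain ⟨Q, hQ⟩ := (Polynomial.mem_lifts _).1 hlift
    have hmap : P.map j = ∏ y ∈ O, (X - C (j y)) := by simp [P, Polynomial.map_prod]
    have hsep : Q.Separable := by
      rw [← Polynomial.separable_map (algebraMap K Ω), hQ, hmap]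
      exact separable_prod_X_sub_C_iff'.2 fun x _ y _ h => hjinj h
    refine hsep.of_dvd (minpoly.dvd K _ ?_)
    rw [← aeval_map_algebraMap Ω, hQ, hmap, coe_aeval_eq_eval, eval_prod]
    exact Finset.prod_eq_zero (i := a) (Finset.mem_image.2 ⟨1, Finset.mem_univ _, one_smul G a⟩) (by simp)
  haveI : IsGalois K L := ⟨⟩
  let jL : A →+* L :=
    { toFun := fun a => ⟨j a, hjL a⟩
      map_one' := Subtype.ext (map_one j)
      map_mul' := fun a b => Subtype.ext (map_mul j a b)
      map_zero' := Subtype.ext (map_zero j)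
      map_add' := fun a b => Subtype.ext (map_add j a b) }
  have hjLinj : Function.Injective jL := fun a b h => hjinj (congrArg Subtype.val h)
  have hr' : ∀ τ : L ≃ₐ[K] L, ∃ g : G, ∀ a, τ (jL a) = jL (g • a) := fun τ =>
    exists_smul_of_eqOn jL (τ.toRingEquiv.toRingHom.comp jL) hjLinj fun b hb => by
      obtain ⟨y, hy⟩ := hfix b hb
      have h1 : jL b = algebraMap K L (algebraMap A K y) :=
        Subtype.ext (hy.trans (IsScalarTower.algebraMap_apply A K Ω y))
      show τ (jL b) = jL b
      rw [h1, τ.commutes]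
  choose r hr using hr'
  have huniq : ∀ g g' : G, (∀ a, jL (g • a) = jL (g' • a)) → g = g' := fun g g' h => by
    have h1 := hfaith (g'⁻¹ * g) fun a => by rw [mul_smul, hjLinj (h a), inv_smul_smul]
    exact (inv_mul_eq_one.1 h1).symm
  let rh : (L ≃ₐ[K] L) →* G :=
    { toFun := r
      map_one' := huniq _ _ fun a => by rw [← hr, one_smul]; rfl
      map_mul' := fun τ τ' => huniq _ _ fun a => by
        rw [← hr (τ * τ'), mul_smul, ← hr τ, ← hr τ']; rfl }
  have hrinj : Function.Injective rh := fun τ τ' h => by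
    have h' : r τ = r τ' := h
    have hgen : ∀ x : L, τ x = τ' x := by
      rintro ⟨x, hx⟩
      induction hx using IntermediateField.adjoin_induction with
      | mem y hy =>
        obtain ⟨a, rfl⟩ := hy
        show τ (jL a) = τ' (jL a)
        rw [hr, hr, h']
      | algebraMap c =>
        show τ (algebraMap K L c) = τ' (algebraMap K L c)
        rw [τ.commutes, τ'.commutes]
      | add y z hy' hz' hy hz =>
        show τ (⟨y, hy'⟩ + ⟨z, hz'⟩) = τ' (⟨y, hy'⟩ + ⟨z, hz'⟩)
        rw [map_add, map_add, hy, hz]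
      | inv y hy' hy =>
        show τ (⟨y, hy'⟩⁻¹) = τ' (⟨y, hy'⟩⁻¹)
        rw [map_inv₀, map_inv₀, hy]
      | mul y z hy' hz' hy hz =>
        show τ (⟨y, hy'⟩ * ⟨z, hz'⟩) = τ' (⟨y, hy'⟩ * ⟨z, hz'⟩)
        rw [map_mul, map_mul, hy, hz]
    exact AlgEquiv.ext hgen
  haveI : Finite (L ≃ₐ[K] L) := Finite.of_injective rh hrinj
  haveI : FiniteDimensional K L := IsGalois.finiteDimensional_of_finite K L
  have hdeg : Module.finrank K L = Nat.card G := by
    rw [← IsGalois.card_aut_eq_finrank K L]
    rcases hp.eq_one_or_self_of_dvd _ (Subgroup.card_dvd_of_injective rh hrinj) with h1 | h1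
    · exfalso
      rw [IsGalois.card_aut_eq_finrank K L] at h1
      have hbot : L = ⊥ := IntermediateField.finrank_eq_one_iff.1 h1
      have h3 : j a₀ ∈ (⊥ : IntermediateField K Ω) := hbot ▸ hjL a₀
      obtain ⟨z, hz⟩ := IntermediateField.mem_bot.1 h3
      have hzint : IsIntegral A z := (isIntegral_algHom_iff (IsScalarTower.toAlgHom A K Ω)
        (algebraMap K Ω).injective).1 (by rw [IsScalarTower.coe_toAlgHom', hz]; exact hint a₀)
      obtain ⟨y, rfl⟩ := IsIntegrallyClosed.isIntegral_iff.1 hzint
      exact ha₀ ⟨y, (IsScalarTower.algebraMap_apply A K Ω y).trans hz⟩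
    · exact h1
  let D := integralClosure A L
  haveI : IsIntegralClosure D A L := integralClosure.isIntegralClosure A L
  haveI : IsNoetherianRing A := inferInstance
  haveI : Module.Finite A D := IsIntegralClosure.finite A K L D
  haveI : IsFractionRing D L := IsIntegralClosure.isFractionRing_of_finite_extension A K L D
  haveI : IsIntegrallyClosed D := integralClosure.isIntegrallyClosedOfFiniteExtension K
  haveI : IsNoetherianRing D := IsNoetherianRing.of_finite A D
  have hAD : Function.Injective (algebraMap A D) := fun x y h => hι (by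
    have := congrArg (fun d : D => ((d : L) : Ω)) h
    exact this)
  haveI : FaithfulSMul A D := (faithfulSMul_iff_algebraMap_injective A D).2 hAD
  letI : MulSemiringAction (L ≃ₐ[K] L) D := MulSemiringAction.compHom D (galRestrict A K L D).toMonoidHom
  have hsmul : ∀ (τ : L ≃ₐ[K] L) (d : D), ((τ • d : D) : L) = τ d := fun τ d =>
    algebraMap_galRestrict_apply A τ d
  haveI : SMulCommClass (L ≃ₐ[K] L) A D := ⟨fun τ a d => map_smul (galRestrict A K L D τ) a d⟩
  haveI : Algebra.IsInvariant A D (L ≃ₐ[K] L) := ⟨fun d hd => by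
    obtain ⟨z, hz⟩ := IntermediateField.mem_bot.1 ((IsGalois.mem_bot_iff_fixed (d : L)).2 fun τ => by
      rw [← hsmul, hd τ])
    have hzint : IsIntegral A z := (isIntegral_algHom_iff (IsScalarTower.toAlgHom A K L)
      (algebraMap K L).injective).1 (by rw [IsScalarTower.coe_toAlgHom', hz]; exact d.2)
    obtain ⟨y, rfl⟩ := IsIntegrallyClosed.isIntegral_iff.1 hzint
    exact ⟨y, Subtype.ext ((IsScalarTower.algebraMap_apply A K L y).trans hz)⟩⟩
  have hjD' : ∀ a, IsIntegral A (jL a) := fun a =>
    (isIntegral_algHom_iff (L.val.restrictScalars A) Subtype.val_injective).1 (hint a)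
  let jD : A →+* D :=
    { toFun := fun a => ⟨jL a, hjD' a⟩
      map_one' := Subtype.ext (map_one jL)
      map_mul' := fun a b => Subtype.ext (map_mul jL a b)
      map_zero' := Subtype.ext (map_zero jL)
      map_add' := fun a b => Subtype.ext (map_add jL a b) }
  have hgd : Algebra.HasGoingDown A D := Groth.Agent.S11137.result A D (L ≃ₐ[K] L)
  have hur : ∀ (Q : Ideal D) [Q.IsPrime], Q.height = 1 → Algebra.IsUnramifiedAt A Q := by
    intro Q _ hQ1
    refine isUnramifiedAt_of_inertia_eq_bot A D (L ≃ₐ[K] L) Q (eq_bot_iff.2 fun τ hτ => ?_)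
    let P := Q.comap jD
    have hg : r τ ∈ P.inertia G := fun a => by
      show jD (r τ • a - a) ∈ Q
      have h1 : jD (r τ • a) = τ • jD a := Subtype.ext (by rw [hsmul]; exact (hr τ a).symm)
      rw [map_sub, h1]
      exact hτ (jD a)
    have hP : P ≠ maximalIdeal A := by
      intro hPm
      have hle : maximalIdeal A ≤ Q.comap (algebraMap A D) := by
        by_contra hlt
        have hlt' : Q.comap (algebraMap A D) < maximalIdeal A :=
          lt_of_le_not_ge (le_maximalIdeal (Ideal.IsPrime.ne_top inferInstance)) hlt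
        refine absurd ?_ (not_le_of_gt (Ideal.IsIntegral.comap_lt_comap (R := R) hlt'))
        intro b hb
        have hb' : ((f.symm b : R) : A) ∈ P := by
          rw [hPm]
          intro hu
          have hu' : IsUnit (f.symm b) := by
            haveI := WildQuotLib.isLocalHom_fixed (A := A) (G := G)
            exact isUnit_of_map_unit (FixedPoints.subring A G).subtype _ hu
          have h5 := (hu'.map f).map (algebraMap R A)
          rw [f.apply_symm_apply] at h5
          exact hb h5
        have h2 : jD ((f.symm b : R) : A) = algebraMap A D (b : A) := Subtype.ext (Subtype.ext (by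
          show j _ = ι b
          rw [hj', f.apply_symm_apply]))
        show algebraMap A D (b : A) ∈ Q
        rw [← h2]
        exact hb'
      haveI : Q.LiesOver (maximalIdeal A) :=
        ⟨le_antisymm hle (le_maximalIdeal (Ideal.IsPrime.ne_top inferInstance))⟩
      have h3 := Ideal.height_eq_height_add_of_liesOver_of_hasGoingDown (maximalIdeal A) Q
      rw [← maximalIdeal_height_eq_ringKrullDim] at hdim
      exact absurd ((WithBot.coe_le_coe.1 hdim).trans ((le_self_add.trans h3.ge).trans hQ1.le)) (by norm_num)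
    rw [hram P inferInstance hP, Subgroup.mem_bot] at hg
    exact Subgroup.mem_bot.2 (hrinj (by show r τ = rh 1; rw [map_one]; exact hg))
  haveI : Algebra.Etale A D := etale_of_normal_finite A D hAD (le_trans (by norm_num) hdim) hur
  -- the residue extension
  letI := Ideal.Quotient.field (maximalIdeal A)
  let J := (maximalIdeal A).map (algebraMap A D)
  haveI : Module.Finite (A ⧸ maximalIdeal A) (D ⧸ J) := Module.Finite.of_restrictScalars_finite A _ _
  haveI : IsArtinianRing (D ⧸ J) := IsArtinianRing.of_finite (A ⧸ maximalIdeal A) _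
  haveI : Algebra.FormallyUnramified A (D ⧸ J) :=
    Algebra.FormallyUnramified.of_surjective (Ideal.Quotient.mkₐ A J) Ideal.Quotient.mk_surjective
  haveI : Algebra.FormallyUnramified (A ⧸ maximalIdeal A) (D ⧸ J) :=
    Algebra.FormallyUnramified.of_restrictScalars A _ _
  haveI : IsReduced (D ⧸ J) := Algebra.FormallyUnramified.isReduced_of_field (A ⧸ maximalIdeal A) _
  haveI : HenselianRing D J := HenselLib.henselianRing_map_of_isIntegral
  have hJtop : J ≠ ⊤ := fun h => by
    obtain ⟨M, hM⟩ := Ideal.exists_maximal D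
    refine hM.ne_top (top_le_iff.1 (h ▸ Ideal.map_le_iff_le_comap.2 ?_))
    exact ((eq_maximalIdeal (Ideal.isMaximal_comap_of_isIntegral_of_isMaximal (R := A) M))).ge
  haveI : Nontrivial (D ⧸ J) := Ideal.Quotient.nontrivial_iff.2 hJtop
  have hfield : IsField (D ⧸ J) := by
    refine ⟨exists_pair_ne _, mul_comm, fun {x} hx => ?_⟩
    obtain ⟨y, hy⟩ := HenselLib.exists_idem_factor x
    obtain ⟨e₀, he₀⟩ := Ideal.Quotient.mk_surjective (x * y)
    have he : Ideal.Quotient.mk J (e₀ * e₀ - e₀) = 0 := by
      rw [map_sub, map_mul, he₀]; linear_combination y * hy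
    obtain ⟨e, he1, he2⟩ := HenselianRing.is_henselian (I := J) (X ^ 2 - X : D[X])
      (monic_X_pow_sub (by simp)) e₀
      (by simpa [pow_two] using Ideal.Quotient.eq_zero_iff_mem.1 he)
      (by
        refine IsUnit.of_mul_eq_one (Ideal.Quotient.mk J (2 * e₀ - 1)) ?_
        rw [derivative_sub, derivative_X_pow, derivative_X, eval_sub, eval_mul, eval_C, eval_pow, eval_X, eval_one]
        have he' : (x * y) * (x * y) = x * y := by linear_combination y * hy
        simp only [map_sub, map_mul, map_one, he₀, Nat.cast_ofNat, map_ofNat, Nat.reduceSub, pow_one]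
        linear_combination (4 : D ⧸ J) * he')
    have hor : e = 0 ∨ e = 1 := by
      have h4 : e * (e - 1) = 0 := by
        have := he1.eq_zero
        simp only [eval_sub, eval_pow, eval_X] at this
        linear_combination this
      rcases mul_eq_zero.1 h4 with h | h
      · exact Or.inl h
      · exact Or.inr (sub_eq_zero.1 h)
    have hexy : Ideal.Quotient.mk J e = x * y := by rw [← he₀]; exact Ideal.Quotient.eq.2 he2
    rcases hor with h | h
    · rw [h, map_zero] at hexy
      exact absurd (by rw [← hy, ← hexy, zero_mul]) hx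
    · rw [h, map_one] at hexy
      exact ⟨y, hexy.symm⟩
  haveI : J.IsMaximal := Ideal.Quotient.maximal_of_isField J hfield
  haveI : J.LiesOver (maximalIdeal A) :=
    ⟨(eq_maximalIdeal (Ideal.isMaximal_comap_of_isIntegral_of_isMaximal (R := A) J)).symm⟩
  letI := Ideal.Quotient.field J
  haveI : Normal (A ⧸ maximalIdeal A) (D ⧸ J) := Ideal.Quotient.normal (L ≃ₐ[K] L) (maximalIdeal A) J
  haveI : Algebra.IsSeparable (A ⧸ maximalIdeal A) (D ⧸ J) :=
    Algebra.FormallyUnramified.isSeparable (A ⧸ maximalIdeal A) (D ⧸ J)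
  haveI : Module.Free A D := Module.free_of_flat_of_isLocalRing
  haveI hgal : IsGalois (A ⧸ maximalIdeal A) (D ⧸ J) := ⟨⟩
  refine @hres (D ⧸ J) (Ideal.Quotient.field J)
    (Ideal.Quotient.algebraQuotientMapQuotient : Algebra (A ⧸ maximalIdeal A) (D ⧸ J)) hgal ?_
  show Module.finrank (A ⧸ maximalIdeal A) (D ⧸ J) = Nat.card G
  rw [IsLocalRing.finrank_quotient_map, ← hdeg]
  exact (IsFractionRing.finrank_eq A K D L).symm

/-- Purity: automorphisms of the invariants lift to automorphisms. -/
theorem exists_auto_extend (hdim : (2 : WithBot ℕ∞) ≤ ringKrullDim A) (hp : (Nat.card G).Prime)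
    (hram : ∀ P : Ideal A, P.IsPrime → P ≠ maximalIdeal A → P.inertia G = ⊥)
    (hres : ∀ (l : Type u) [Field l] [Algebra (ResidueField A) l], IsGalois (ResidueField A) l →
      Module.finrank (ResidueField A) l ≠ Nat.card G)
    (f : FixedPoints.subring A G ≃+* FixedPoints.subring A G) :
    ∃ ψ : A ≃+* A, ∀ b : FixedPoints.subring A G, ψ b = f b := by
  obtain ⟨ψ, hψ, hψb⟩ := exists_endo_extend hdim hp hram hres f
  obtain ⟨ψ', hψ', hψ'b⟩ := exists_endo_extend hdim hp hram hres f.symm
  refine ⟨RingEquiv.ofBijective ψ ⟨hψ, fun a => ?_⟩, hψb⟩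
  classical
  cases nonempty_fintype G
  haveI : IsDomain A := CommAlgDim.isDomain_of_isRegularLocalRing A
  let θ := ψ.comp ψ'
  have hθinj : Function.Injective θ := hψ.comp hψ'
  have hθb : ∀ b : FixedPoints.subring A G, θ b = b := fun b => by
    show ψ (ψ' b) = b
    rw [hψ'b, hψb, f.apply_symm_apply]
  let O := Finset.univ.image fun g : G => g • a
  have hmap : ∀ x ∈ O, θ x ∈ O := by
    intro x hx
    obtain ⟨g₀, -, rfl⟩ := Finset.mem_image.1 hx
    let P : A[X] := ∏ g : G, g • (X - C a)
    have hcoef : ∀ n, θ (P.coeff n) = P.coeff n := fun n => hθb ⟨P.coeff n, fun g => by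
      rw [← Polynomial.coeff_smul]
      congr 1
      rw [Finset.smul_prod']
      exact Fintype.prod_equiv (Equiv.mulLeft g) _ _ fun h => by rw [smul_smul]; rfl⟩
    have h0 : P.eval (θ (g₀ • a)) = 0 := by
      have h1 : P.map θ = P := Polynomial.ext fun n => by rw [coeff_map, hcoef]
      rw [← h1, eval_map, eval₂_at_apply, eval_prod, Finset.prod_eq_zero (Finset.mem_univ g₀) (by simp [smul_sub, smul_X, smul_C]),
        map_zero]
    rw [eval_prod, Finset.prod_eq_zero_iff] at h0
    obtain ⟨g, -, hg⟩ := h0
    refine Finset.mem_image.2 ⟨g, Finset.mem_univ _, ?_⟩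
    rw [smul_sub, smul_X, smul_C, eval_sub, eval_X, eval_C, sub_eq_zero] at hg
    exact hg.symm
  obtain ⟨x, -, hx⟩ := Finset.surj_on_of_inj_on_of_card_le (s := O) (t := O) (fun x _ => θ x) hmap
    (fun x y _ _ h => hθinj h) le_rfl a (Finset.mem_image.2 ⟨1, Finset.mem_univ _, one_smul G a⟩)
  exact ⟨ψ' x, hx.symm⟩

end PurityLib
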