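import Groth.Agent.PurityLib.Normal

/-!
# Purity of the branch locus for flat quasi-finite maps
-/

set_option autoImplicit false
set_option linter.style.haveILetI false
set_option linter.unusedSectionVars false

universe u

open IsLocalRing
open scoped TensorProduct

namespace PurityLib

/-- In a positive-dimensional Noetherian local ring every nonunit lies in a prime of height one. -/
theorem exists_height_one_mem {A : Type u} [CommRing A] [IsLocalRing A] [IsNoetherianRing A]
    (hdim : (1 : WithBot ℕ∞) ≤ ringKrullDim A) {d : A} (hd : d ∈ maximalIdeal A) :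
    ∃ (q : Ideal A) (_ : q.IsPrime), d ∈ q ∧ q.height = 1 := by
  classical
  let T : Set (Ideal A) := {q | q.IsPrime ∧ d ∈ q ∧ 1 ≤ q.height}
  have hT : maximalIdeal A ∈ T := by
    refine ⟨inferInstance, hd, ?_⟩
    rw [← maximalIdeal_height_eq_ringKrullDim] at hdim
    exact WithBot.coe_le_coe.1 hdim
  obtain ⟨_, ⟨q, ⟨hq, hdq, hq1⟩, rfl⟩, hn⟩ := wellFounded_lt.has_min (Ideal.height '' T) ⟨_, _, hT, rfl⟩
  have hmin : ∀ x ∈ T, ¬ x < q := fun x hx hlt => hn _ ⟨x, hx, rfl⟩ (by
    haveI := hx.1
    haveI := hq
    exact Ideal.height_strict_mono_of_isPrime hlt)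
  refine ⟨q, hq, hdq, le_antisymm ?_ hq1⟩
  by_contra h2
  -- a chain `P < r < q`
  obtain ⟨P, r, hPp, hrp, hPr, hrq⟩ : ∃ P r : Ideal A, P.IsPrime ∧ r.IsPrime ∧ P < r ∧ r < q := by
    haveI := hq
    obtain ⟨l, hl, hlen⟩ := q.exists_ltSeries_length_eq_height
    have hlen2 : 2 ≤ l.length := by
      have : (2 : ℕ∞) ≤ l.length := by rw [hlen]; exact Order.add_one_le_of_lt (not_le.1 h2)
      exact_mod_cast this
    refine ⟨(l ⟨0, by omega⟩).asIdeal, (l ⟨1, by omega⟩).asIdeal, inferInstance, inferInstance,
      l.strictMono (by simp [Fin.lt_def]), ?_⟩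
    have hlast : (RelSeries.last l).asIdeal = q := by rw [hl]
    rw [← hlast]
    exact l.strictMono (by simp [Fin.lt_def]; omega)
  haveI := hPp
  haveI := hrp
  haveI := hq
  by_cases hdP : d ∈ P
  · exact hmin r ⟨hrp, hPr.le hdP,
      Order.one_le_iff_pos.2 (lt_of_le_of_lt zero_le (Ideal.height_strict_mono_of_isPrime hPr))⟩ hrq
  · obtain ⟨s, hs, hsq⟩ := Ideal.exists_minimalPrimes_le (I := P ⊔ Ideal.span {d}) (J := q)
      (sup_le (hPr.trans hrq).le ((Ideal.span_singleton_le_iff_mem q).2 hdq))
    haveI := hs.1.1
    have hds : d ∈ s := hs.1.2 (Ideal.mem_sup_right (Ideal.mem_span_singleton_self d))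
    have hPs : P < s := lt_of_le_not_ge (le_sup_left.trans hs.1.2) fun h => hdP (h hds)
    have hs1 : 1 ≤ s.height := Order.one_le_iff_pos.2 (lt_of_le_of_lt zero_le (Ideal.height_strict_mono_of_isPrime hPs))
    rcases lt_or_eq_of_le hsq with hlt | heq
    · exact hmin s ⟨inferInstance, hds, hs1⟩ hlt
    subst heq
    let π := Ideal.Quotient.mk P
    have hsurj : Function.Surjective π := Ideal.Quotient.mk_surjective
    have hker : RingHom.ker π = P := Ideal.mk_ker
    have hmin' : s.map π ∈ (Ideal.span {π d}).minimalPrimes := by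
      have hprime : (s.map π).IsPrime := Ideal.map_isPrime_of_surjective hsurj (hker.le.trans hPs.le)
      refine ⟨⟨hprime, (Ideal.span_singleton_le_iff_mem _).2 (Ideal.mem_map_of_mem π hds)⟩, fun J ⟨hJ, hdJ⟩ hJs => ?_⟩
      haveI := hJ
      have h1 : s ≤ J.comap π := hs.2 ⟨Ideal.IsPrime.comap _, sup_le (fun x hx => by
          show π x ∈ J
          rw [Ideal.Quotient.eq_zero_iff_mem.2 hx]; exact zero_mem _)
        ((Ideal.span_singleton_le_iff_mem _).2 (show π d ∈ J from (Ideal.span_singleton_le_iff_mem _).1 hdJ))⟩
        ((Ideal.comap_mono hJs).trans (by rw [Ideal.comap_map_of_surjective' _ hsurj, hker, sup_eq_left.2 hPs.le]))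
      exact Ideal.map_le_iff_le_comap.2 h1
    haveI := hmin'.1.1
    have h3 := Ideal.height_le_one_of_isPrincipal_of_mem_minimalPrimes _ _ hmin'
    have hP' : (⊥ : Ideal (A ⧸ P)) < r.map π := bot_lt_iff_ne_bot.2 fun h => hPr.not_ge fun x hx => by
      have := Ideal.mem_map_of_mem π hx
      rw [h, Ideal.mem_bot] at this
      exact Ideal.Quotient.eq_zero_iff_mem.1 this
    haveI : (r.map π).IsPrime := Ideal.map_isPrime_of_surjective hsurj (hker.le.trans hPr.le)
    have hr' : r.map π < s.map π := lt_of_le_not_ge (Ideal.map_mono hrq.le) fun h => hrq.not_ge fun x hx => by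
      obtain ⟨y, hy, hyx⟩ := (Ideal.mem_map_iff_of_surjective π hsurj).1 (h (Ideal.mem_map_of_mem π hx))
      have h5 := r.sub_mem hy (hPr.le (Ideal.Quotient.eq.1 hyx))
      simpa using h5
    have h6 := Ideal.height_strict_mono_of_isPrime hP'
    have h7 := Ideal.height_strict_mono_of_isPrime hr'
    exact absurd (lt_of_lt_of_le h7 h3) (not_lt.2 (Order.one_le_iff_pos.2 (lt_of_le_of_lt zero_le h6)))

theorem height_le_under' {A : Type*} {B : Type*} [CommRing A] [CommRing B] [Algebra A B] [Algebra.IsIntegral A B]
    [IsNoetherianRing A] [IsNoetherianRing B] (P : Ideal B) [P.IsPrime] : P.height ≤ (P.comap (algebraMap A B)).height := by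
  have := Order.height_le_height_apply_of_strictMono
    (fun Q : PrimeSpectrum B => PrimeSpectrum.comap (algebraMap A B) Q)
    (fun Q Q' h => Ideal.IsIntegral.comap_lt_comap (R := A) (I := Q.asIdeal) h) ⟨P, inferInstance⟩
  rwa [← PrimeSpectrum.height_eq_orderHeight, ← PrimeSpectrum.height_eq_orderHeight] at this

/-- A flat finite algebra over a positive-dimensional local ring, unramified in height one, is étale. -/
theorem etale_of_flat_height_one (A : Type u) [CommRing A] [IsLocalRing A] [IsNoetherianRing A] (B : Type u)
    [CommRing B] [Algebra A B] [Module.Finite A B] [Module.Flat A B] (hdim : (1 : WithBot ℕ∞) ≤ ringKrullDim A)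
    (hunr : ∀ (Q : Ideal B) [Q.IsPrime], Q.height = 1 → Algebra.IsUnramifiedAt A Q) : Algebra.Etale A B := by
  classical
  haveI : Module.Free A B := Module.free_of_flat_of_isLocalRing
  haveI : Algebra.HasGoingDown A B := Algebra.HasGoingDown.of_flat
  haveI : IsNoetherianRing B := IsNoetherianRing.of_finite A B
  let b := Module.Free.chooseBasis A B
  have hu : IsUnit (Algebra.discr A b) := by
    by_contra hu
    obtain ⟨p, hp, hmem, hht⟩ := exists_height_one_mem hdim (show Algebra.discr A b ∈ maximalIdeal A from hu)
    let Ap := Localization.AtPrime p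
    let Bp := Ap ⊗[A] B
    letI : Algebra B Bp := Algebra.TensorProduct.rightAlgebra
    haveI : IsScalarTower A B Bp := IsScalarTower.of_algebraMap_eq fun x => by
      rw [RingHom.algebraMap_toAlgebra]
      exact (AlgHom.commutes (Algebra.TensorProduct.includeRight : B →ₐ[A] Bp) x).symm
    haveI : IsLocalization (Algebra.algebraMapSubmonoid B p.primeCompl) Bp :=
      IsLocalization.tensorRight (R := A) (A := Ap) (S := B) p.primeCompl
    haveI : Algebra.FormallyUnramified Ap Bp := by
      refine Algebra.formallyUnramified_iff_forall.2 fun Q' => ?_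
      let L := Localization.AtPrime Q'.asIdeal
      let Q := Q'.asIdeal.comap (algebraMap B Bp)
      have hle : Q.under A ≤ p := fun a ha => by
        by_contra hap
        exact (Ideal.IsPrime.ne_top inferInstance) (Ideal.eq_top_of_isUnit_mem Q'.asIdeal
          (show algebraMap B Bp (algebraMap A B a) ∈ Q'.asIdeal from ha)
          (IsLocalization.map_units Bp (⟨algebraMap A B a, a, hap, rfl⟩ : Algebra.algebraMapSubmonoid B p.primeCompl)))
      haveI : Algebra.IsUnramifiedAt A Q := by
        rcases eq_or_lt_of_le hle with h | h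
        · haveI : Q.LiesOver p := ⟨h.symm⟩
          refine hunr Q (le_antisymm ((height_le_under' Q).trans ((congrArg Ideal.height h).le.trans hht.le)) ?_)
          have h3 := Ideal.height_eq_height_add_of_liesOver_of_hasGoingDown p Q
          rw [h3, hht]
          exact le_self_add
        · obtain ⟨Q₁, hQ₁, hQ₁p, hQ₁over⟩ := Ideal.exists_ideal_over_prime_of_isIntegral (S := B) p Q h.le
          haveI := hQ₁p
          haveI : Q₁.LiesOver p := ⟨hQ₁over.symm⟩
          haveI := hunr Q₁ (le_antisymm ((height_le_under' Q₁).trans ((congrArg Ideal.height hQ₁over).le.trans hht.le))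
            (by rw [Ideal.height_eq_height_add_of_liesOver_of_hasGoingDown p Q₁, hht]; exact le_self_add))
          let L₁ := Localization.AtPrime Q
          let ψ : Localization.AtPrime Q₁ →+* L₁ := IsLocalization.lift (M := Q₁.primeCompl) (g := algebraMap B L₁) fun y =>
            IsLocalization.map_units L₁ (⟨(y : B), fun h => y.2 (hQ₁ h)⟩ : Q.primeCompl)
          letI := ψ.toAlgebra
          haveI : IsScalarTower B (Localization.AtPrime Q₁) L₁ :=
            IsScalarTower.of_algebraMap_eq fun x => (IsLocalization.lift_eq _ x).symm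
          haveI : IsScalarTower A (Localization.AtPrime Q₁) L₁ := IsScalarTower.to₁₃₄ A B _ _
          haveI : Algebra.FormallyUnramified B L₁ := Algebra.FormallyUnramified.of_isLocalization Q.primeCompl
          haveI : Algebra.FormallyUnramified (Localization.AtPrime Q₁) L₁ :=
            Algebra.FormallyUnramified.of_restrictScalars B _ _
          exact Algebra.FormallyUnramified.comp A (Localization.AtPrime Q₁) L₁
      haveI : IsLocalization.AtPrime L Q :=
        IsLocalization.isLocalization_isLocalization_atPrime_isLocalization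
          (Algebra.algebraMapSubmonoid B p.primeCompl) L Q'.asIdeal
      let e : Localization.AtPrime Q ≃ₐ[B] L := IsLocalization.algEquiv Q.primeCompl _ _
      haveI : Algebra.FormallyUnramified A L := Algebra.FormallyUnramified.of_equiv (e.restrictScalars A)
      exact Algebra.FormallyUnramified.of_restrictScalars A Ap L
    haveI : IsNoetherianRing Ap := IsLocalization.isNoetherianRing p.primeCompl _ inferInstance
    haveI : Algebra.FinitePresentation Ap Bp := Algebra.FinitePresentation.of_finiteType.1 inferInstance
    haveI : Algebra.Etale Ap Bp := Algebra.Etale.of_formallyUnramified_of_flat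
    let b' := Algebra.TensorProduct.basis Ap b
    have h1 := QFDualLib.isUnit_discr_of_etale b'
    rw [QFDualLib.discr_map b b' (fun i => by
      rw [RingHom.algebraMap_toAlgebra]; simp [b']), IsLocalization.AtPrime.isUnit_to_map_iff _ p] at h1
    exact h1 hmem
  haveI := QFDualLib.formallyUnramified_of_isUnit_discr b hu
  haveI : Algebra.FinitePresentation A B := Algebra.FinitePresentation.of_finiteType.1 inferInstance
  exact Algebra.Etale.of_formallyUnramified_of_flat

set_option synthInstance.maxHeartbeats 200000 in
set_option maxHeartbeats 1000000 in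
theorem unramified_of_flat_height_one (R S : Type u) [CommRing R] [IsNoetherianRing R] [CommRing S] [Algebra R S]
    [Algebra.FiniteType R S] (p : Ideal R) [p.IsPrime] (q : Ideal S) [q.IsPrime] [q.LiesOver p]
    [Algebra.QuasiFiniteAt R q] [Module.Flat R S]
    (hdim1 : (1 : WithBot ℕ∞) ≤ ringKrullDim (Localization.AtPrime q))
    (hunr : ∀ (Q : Ideal S) [Q.IsPrime], Q ≤ q → Q.height = 1 → Algebra.IsUnramifiedAt R Q) :
    Algebra.IsUnramifiedAt R q := by
  classical
  obtain ⟨R', _, _, _, P, _, _, e, he, P', _, _, hP'q, heP', -, hfin, huniq⟩ :=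
    Algebra.exists_etale_isIdempotentElem_forall_liesOver_eq (R := R) (S := S) p q
  haveI : IsNoetherianRing R' := Algebra.FiniteType.isNoetherianRing R R'
  haveI : IsNoetherianRing S := Algebra.FiniteType.isNoetherianRing R S
  let U := R' ⊗[R] S
  letI : Algebra S U := Algebra.TensorProduct.rightAlgebra
  haveI : IsScalarTower R S U := IsScalarTower.of_algebraMap_eq fun x => by
    rw [RingHom.algebraMap_toAlgebra]
    exact (AlgHom.commutes (Algebra.TensorProduct.includeRight : S →ₐ[R] U) x).symm
  haveI : Algebra.Etale S U := Algebra.Etale.of_equiv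
    (({ Algebra.TensorProduct.comm R S R' with
        commutes' := fun x => by
          show Algebra.TensorProduct.comm R S R' (x ⊗ₜ[R] 1) = (1 : R') ⊗ₜ[R] x
          simp } : S ⊗[R] R' ≃ₐ[S] U))
  haveI : IsNoetherianRing U := Algebra.FiniteType.isNoetherianRing S U
  haveI : P'.LiesOver q := ⟨hP'q.symm⟩
  let T := Localization.Away e
  let QT := P'.map (algebraMap U T)
  have hdisj : Disjoint (Submonoid.powers e : Set U) ↑P' :=
    (Ideal.disjoint_powers_iff_notMem_of_isPrime e).2 heP'
  haveI : QT.IsPrime := IsLocalization.isPrime_of_isPrime_disjoint _ _ _ ‹_› hdisj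
  have hQT : QT.comap (algebraMap U T) = P' := IsLocalization.comap_map_of_isPrime_disjoint _ _ ‹_› hdisj
  haveI : QT.LiesOver P' := ⟨hQT.symm⟩
  haveI : QT.LiesOver P := .trans _ P' _
  let B := Localization.AtPrime QT
  haveI : IsLocalization.AtPrime B P' := by
    have key : ∀ (J : Ideal U) [J.IsPrime], J = P' → IsLocalization.AtPrime B J → IsLocalization.AtPrime B P' := by
      rintro J _ rfl h; exact h
    exact key _ hQT (IsLocalization.isLocalization_isLocalization_atPrime_isLocalization (Submonoid.powers e) B QT)
  let A' := Localization.AtPrime P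
  letI := Localization.AtPrime.algebraOfLiesOver P QT
  haveI : IsLocalHom (algebraMap A' B) := Localization.isLocalHom_localRingHom P QT (algebraMap R' T) (QT.over_def P)
  -- the maps from `S`
  let φ : Localization.AtPrime q →+* B := IsLocalization.lift (M := q.primeCompl) (g := algebraMap S B) fun y => by
    rw [IsScalarTower.algebraMap_apply S U B]
    exact IsLocalization.map_units B (⟨algebraMap S U y, fun h => y.2 (hP'q ▸ h : (y : S) ∈ q)⟩ : P'.primeCompl)
  letI : Algebra (Localization.AtPrime q) B := φ.toAlgebra
  haveI : IsScalarTower S (Localization.AtPrime q) B := IsScalarTower.of_algebraMap_eq fun x =>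
    (IsLocalization.lift_eq _ x).symm
  haveI : IsScalarTower R (Localization.AtPrime q) B := IsScalarTower.to₁₃₄ R S _ _
  haveI : Module.Flat U B := IsLocalization.flat B P'.primeCompl
  haveI : Module.Flat S B := Module.Flat.trans S U B
  haveI : Module.Flat (Localization.AtPrime q) B :=
    (Module.flat_iff_of_isLocalization (Localization.AtPrime q) q.primeCompl _).2 inferInstance
  haveI : IsLocalHom (algebraMap (Localization.AtPrime q) B) := ⟨fun z hz => by
    obtain ⟨x, s, rfl⟩ := IsLocalization.exists_mk'_eq q.primeCompl z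
    rw [IsLocalization.AtPrime.isUnit_mk'_iff]
    intro hx
    have h1 : IsUnit (algebraMap S B x) := by
      have h2 := hz.mul ((IsLocalization.map_units (Localization.AtPrime q) s).map (algebraMap (Localization.AtPrime q) B))
      rwa [← map_mul, IsLocalization.mk'_spec, ← IsScalarTower.algebraMap_apply] at h2
    rw [IsScalarTower.algebraMap_apply S U B, IsLocalization.AtPrime.isUnit_to_map_iff B P'] at h1
    exact h1 (hP'q.symm ▸ hx : x ∈ P'.comap _)⟩
  -- `B` is finite over `A'`
  haveI : Module.Finite R' T := hfin
  haveI : Module.Finite A' B := by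
    let ψ : A' ⊗[R'] T →ₐ[A'] B :=
      Algebra.TensorProduct.lift (Algebra.ofId A' B) (IsScalarTower.toAlgHom R' T B) fun _ _ => Commute.all _ _
    refine Module.Finite.of_surjective ψ.toLinearMap fun b => ?_
    obtain ⟨t, s, rfl⟩ := IsLocalization.exists_mk'_eq QT.primeCompl b
    have hu : IsUnit ((1 : A') ⊗ₜ[R'] (s : T)) := by
      by_contra hu
      obtain ⟨M, hM, hmem⟩ := exists_max_ideal_of_mem_nonunits hu
      haveI : Algebra.IsIntegral A' (A' ⊗[R'] T) := Algebra.IsIntegral.of_finite _ _
      have hMA : M.comap (algebraMap A' (A' ⊗[R'] T)) = maximalIdeal A' :=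
        IsLocalRing.eq_maximalIdeal (Ideal.isMaximal_comap_of_isIntegral_of_isMaximal M)
      let ι := (Algebra.TensorProduct.includeRight : T →ₐ[R'] A' ⊗[R'] T)
      let M' := M.comap ι.toRingHom
      let M'' := M'.comap (algebraMap U T)
      have hover : M''.LiesOver P := ⟨by
        ext a
        rw [← IsLocalization.AtPrime.to_map_mem_maximal_iff A' P a, ← hMA, Ideal.mem_comap, Ideal.under_def,
          Ideal.mem_comap, Ideal.mem_comap, Ideal.mem_comap, ← IsScalarTower.algebraMap_apply R' A',
          ← IsScalarTower.algebraMap_apply R' U T]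
        exact iff_of_eq (congrArg (· ∈ M) (ι.commutes a).symm)⟩
      have heM : e ∉ M'' := fun h => (Ideal.IsPrime.ne_top inferInstance) (Ideal.eq_top_of_isUnit_mem M'
        (show algebraMap U T e ∈ M' from h) (IsLocalization.Away.algebraMap_isUnit e))
      have hM'' : M'' = P' := huniq M'' inferInstance hover heM
      have hM' : M' = QT := by rw [← IsLocalization.map_comap (Submonoid.powers e) T M']; exact congrArg _ hM''
      exact s.2 (hM'.le hmem)
    refine ⟨((1 : A') ⊗ₜ[R'] t) * ↑hu.unit⁻¹, (IsLocalization.eq_mk'_iff_mul_eq).2 ?_⟩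
    have h1 : ∀ x : T, ψ ((1 : A') ⊗ₜ[R'] x) = algebraMap T B x := fun x => by
      rw [Algebra.TensorProduct.lift_tmul, map_one, one_mul]; rfl
    show ψ _ * _ = _
    rw [← h1, ← map_mul, mul_assoc, IsUnit.val_inv_mul, mul_one, h1]
  have hdB : ringKrullDim B = ringKrullDim (Localization.AtPrime q) := by
    have := dim_eq_of_etale q P'
    rw [← this]
    exact ringKrullDim_eq_of_ringEquiv (IsLocalization.algEquiv P'.primeCompl B (Localization.AtPrime P')).toRingEquiv
  have hU : ∀ (Q : Ideal B) [Q.IsPrime], Q.height = 1 → Algebra.IsUnramifiedAt A' Q := by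
    intro Q _ hQ
    let QU := Q.comap (algebraMap U B)
    let q₁ := QU.comap (algebraMap S U)
    haveI : QU.LiesOver q₁ := ⟨rfl⟩
    have hle : q₁ ≤ q := fun x hx => by
      by_contra hxq
      exact (Ideal.IsPrime.ne_top inferInstance) (Ideal.eq_top_of_isUnit_mem Q (show algebraMap U B (algebraMap S U x) ∈ Q from hx)
        (IsLocalization.map_units B (⟨algebraMap S U x, fun h => hxq (hP'q ▸ h : x ∈ q)⟩ : P'.primeCompl)))
    have hh : q₁.height = 1 := by
      rw [← height_eq_of_etale q₁ QU, ← hQ]
      exact IsLocalization.height_comap P'.primeCompl Q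
    haveI := hunr q₁ hle hh
    let L := Localization.AtPrime Q
    haveI : IsLocalization.AtPrime L QU :=
      IsLocalization.isLocalization_isLocalization_atPrime_isLocalization P'.primeCompl L Q
    haveI : Algebra.FormallyUnramified R (Localization.AtPrime QU) := by
      letI := Localization.AtPrime.algebraOfLiesOver q₁ QU
      haveI : Algebra.FormallyUnramified S (Localization.AtPrime QU) := Algebra.FormallyUnramified.comp S U _
      haveI : Algebra.FormallyUnramified (Localization.AtPrime q₁) (Localization.AtPrime QU) :=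
        Algebra.FormallyUnramified.of_restrictScalars S _ _
      haveI : IsScalarTower R (Localization.AtPrime q₁) (Localization.AtPrime QU) := IsScalarTower.to₁₃₄ R S _ _
      exact Algebra.FormallyUnramified.comp R (Localization.AtPrime q₁) _
    let e' : Localization.AtPrime QU ≃ₐ[U] L := IsLocalization.algEquiv QU.primeCompl _ _
    haveI : Algebra.FormallyUnramified R L := Algebra.FormallyUnramified.of_equiv (e'.restrictScalars R)
    haveI : Algebra.FormallyUnramified R' L := Algebra.FormallyUnramified.of_restrictScalars R R' L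
    exact Algebra.FormallyUnramified.of_restrictScalars R' A' L
  haveI : Module.Flat R' U := inferInstance
  haveI : Module.Flat R' B := Module.Flat.trans R' U B
  haveI : Module.Flat A' B := (Module.flat_iff_of_isLocalization A' P.primeCompl B).2 inferInstance
  haveI : IsNoetherianRing A' := IsLocalization.isNoetherianRing P.primeCompl _ inferInstance
  haveI : Algebra.Etale A' B := etale_of_flat_height_one A' B
    (le_trans hdim1 (hdB.ge.trans (CohenLib.ringKrullDim_le_of_isIntegral A' B))) hU
  -- descend
  haveI : Algebra.FormallyEtale R' A' := Algebra.FormallyEtale.of_isLocalization P.primeCompl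
  haveI : Algebra.FormallyEtale R' B := Algebra.FormallyEtale.comp R' A' B
  haveI : Algebra.FormallyEtale R B := Algebra.FormallyEtale.comp R R' B
  haveI : Module.FaithfullyFlat (Localization.AtPrime q) B := Module.FaithfullyFlat.of_flat_of_isLocalHom
  haveI : Algebra.FormallyEtale U B := Algebra.FormallyEtale.of_isLocalization P'.primeCompl
  haveI : Algebra.FormallyEtale S B := Algebra.FormallyEtale.comp S U B
  haveI : Algebra.FormallyEtale (Localization.AtPrime q) B := Algebra.FormallyEtale.localization_base q.primeCompl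
  rw [Algebra.IsUnramifiedAt, Algebra.formallyUnramified_iff]
  haveI : Subsingleton (B ⊗[Localization.AtPrime q] Ω[Localization.AtPrime q⁄R]) :=
    (KaehlerDifferential.tensorKaehlerEquivOfFormallyEtale R (Localization.AtPrime q) B).toEquiv.subsingleton
  exact (Module.FaithfullyFlat.subsingleton_tensorProduct_iff_right (Localization.AtPrime q) B).1 inferInstance

end PurityLib
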