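import Groth.Agent.PurityLib.Normal
import Groth.Agent.InertiaEtaleLib.Element
import Groth.Agent.HenselLib.Perm
import Mathlib.RingTheory.IntegralClosure.IntegralRestrict
import Mathlib.RingTheory.Invariant.Galois
import Mathlib.FieldTheory.SeparableClosure
import Mathlib.GroupTheory.CosetCover

/-!
# Embeddings of a ring with a finite group action and purity
-/

set_option autoImplicit false
set_option linter.style.haveILetI false
set_option linter.unusedSectionVars false

universe u w

open IsLocalRing Polynomial
open scoped Pointwise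

namespace PurityLib

/-- An element separating the group gives unramifiedness. -/
theorem isUnramifiedAt_of_inertia_eq_bot (A : Type u) [CommRing A] (D : Type u) [CommRing D] [Algebra A D]
    (G : Type w) [Group G] [Finite G] [MulSemiringAction G D] [SMulCommClass G A D] [Algebra.IsInvariant A D G]
    (Q : Ideal D) [Q.IsPrime] (hI : Q.inertia G = ⊥) : Algebra.IsUnramifiedAt A Q := by
  classical
  cases nonempty_fintype G
  obtain ⟨a, -, -, -, ha⟩ := InertiaEtaleLib.exists_element (G := G) Q
  let u : D := ∏ g ∈ Finset.univ.erase (1 : G), (a - g • a)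
  have hu : u ∉ Q := fun h => by
    obtain ⟨g, hg, hgQ⟩ := Ideal.IsPrime.prod_mem_iff.1 h
    refine ha g (fun hg' => ?_) (by simpa using Q.neg_mem hgQ)
    rw [hI, Subgroup.mem_bot] at hg'
    exact (Finset.ne_of_mem_erase hg) hg'
  have hdesc : ∀ F : D[X], (∀ g : G, g • F = F) → ∃ P : A[X], P.map (algebraMap A D) = F := fun F hF =>
    (Polynomial.mem_lifts _).1 <| (Polynomial.lifts_iff_coeff_lifts F).2 fun n =>
      Algebra.IsInvariant.isInvariant (F.coeff n) fun g : G => by rw [← Polynomial.coeff_smul, hF g]
  obtain ⟨f, hf⟩ := hdesc (∏ g : G, g • (X - C a)) fun g' => by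
    rw [Finset.smul_prod']
    exact Fintype.prod_equiv (Equiv.mulLeft g') _ _ fun g => by rw [smul_smul]; rfl
  have hfa : aeval a f = 0 := by
    rw [← aeval_map_algebraMap D, hf, coe_aeval_eq_eval, eval_prod]
    exact Finset.prod_eq_zero (Finset.mem_univ 1) (by simp)
  have hfa' : aeval a (derivative f) = u := by
    rw [← aeval_map_algebraMap D, ← derivative_map, hf, coe_aeval_eq_eval,
      ← Finset.mul_prod_erase Finset.univ _ (Finset.mem_univ (1 : G)), derivative_mul, eval_add, eval_mul, eval_mul]
    simp [eval_prod, u, smul_sub, smul_X, smul_C]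
  let d := KaehlerDifferential.D A D
  have hpoly : ∀ P : A[X], d (aeval a P) = aeval a (derivative P) • d a := fun P => d.map_aeval P a
  have hda : u • d a = 0 := by rw [← hfa', ← hpoly, hfa, map_zero]
  have hdx : ∀ x : D, (u * u) • d x = 0 := fun x => by
    obtain ⟨F, hF⟩ := hdesc (∑ g : G, g • (C x * ∏ h ∈ Finset.univ.erase (1 : G), (X - C (h • a)))) fun g' => by
      rw [Finset.smul_sum]
      exact Fintype.sum_equiv (Equiv.mulLeft g') _ _ fun g => by rw [smul_smul]; rfl
    have hFa : aeval a F = x * u := by
      rw [← aeval_map_algebraMap D, hF, coe_aeval_eq_eval, eval_finsetSum,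
        Finset.sum_eq_single (1 : G)]
      · simp [eval_prod, u]
      · intro g _ hg
        rw [smul_mul', eval_mul, Finset.smul_prod', eval_prod]
        refine mul_eq_zero_of_right _ (Finset.prod_eq_zero (Finset.mem_erase.2 ⟨inv_ne_one.2 hg, Finset.mem_univ _⟩) ?_)
        simp [smul_sub, smul_X, smul_C]
      · simp
    have h1 : x • d u + u • d x = aeval a (derivative F) • d a := by rw [← hpoly, hFa, d.leibniz]
    have hdu : u • d u = 0 := by
      rw [← hfa', hpoly, smul_comm, hfa', hda, smul_zero]
    have h2 := congrArg (u • ·) h1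
    rw [smul_add, smul_comm u x, hdu, smul_zero, zero_add, smul_comm u (aeval a (derivative F)), hda, smul_zero,
      smul_smul] at h2
    exact h2
  have hsupp : (⟨Q, inferInstance⟩ : PrimeSpectrum D) ∈ Algebra.unramifiedLocus A D := by
    rw [Algebra.unramifiedLocus_eq_compl_support, Set.mem_compl_iff, Module.notMem_support_iff']
    intro m
    refine ⟨u * u, fun h => (Ideal.IsPrime.mem_or_mem ‹_› h).elim hu hu, ?_⟩
    have hm : m ∈ Submodule.span D (Set.range d) := (KaehlerDifferential.span_range_derivation A D).symm ▸ trivial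
    induction hm using Submodule.span_induction with
    | mem y hy => obtain ⟨x, rfl⟩ := hy; exact hdx x
    | zero => rw [smul_zero]
    | add y z _ _ hy hz => rw [smul_add, hy, hz, add_zero]
    | smul r y _ hy => rw [smul_comm, hy, smul_zero]
  exact hsupp

variable {A : Type u} [CommRing A] [IsDomain A] {G : Type w} [Group G] [Finite G] [MulSemiringAction G A]

/-- Two embeddings which agree on the invariants differ by a group element. -/
theorem exists_smul_of_eqOn [Infinite A] {Ω : Type*} [CommRing Ω] [IsDomain Ω] (j₁ j₂ : A →+* Ω)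
    (hj : Function.Injective j₁) (heq : ∀ b : A, (∀ g : G, g • b = b) → j₂ b = j₁ b) :
    ∃ g : G, ∀ a, j₂ a = j₁ (g • a) := by
  classical
  cases nonempty_fintype G
  let S : G → AddSubgroup A := fun g =>
    (j₂.toAddMonoidHom - (j₁.comp (MulSemiringAction.toRingHom G A g)).toAddMonoidHom).ker
  have hS : ∀ (g : G) (a : A), a ∈ S g ↔ j₂ a = j₁ (g • a) := fun g a => by
    show j₂ a - j₁ (g • a) = 0 ↔ _
    rw [sub_eq_zero]
  have hcov : ⋃ g ∈ (Finset.univ : Finset G), (0 : A) +ᵥ (S g : Set A) = Set.univ := by
    refine Set.eq_univ_of_forall fun a => ?_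
    let f : A[X] := ∏ g : G, g • (X - C a)
    have hf : ∀ n, j₂ (f.coeff n) = j₁ (f.coeff n) := fun n => heq _ fun g' => by
      rw [← Polynomial.coeff_smul]
      congr 1
      rw [Finset.smul_prod']
      exact Fintype.prod_equiv (Equiv.mulLeft g') _ _ fun g => by rw [smul_smul]; rfl
    have h0 : (f.map j₁).eval (j₂ a) = 0 := by
      rw [show f.map j₁ = f.map j₂ from Polynomial.ext fun n => by rw [coeff_map, coeff_map, hf], eval_map,
        eval₂_at_apply, eval_prod, Finset.prod_eq_zero (Finset.mem_univ 1) (by simp), map_zero]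
    rw [Polynomial.map_prod, eval_prod, Finset.prod_eq_zero_iff] at h0
    obtain ⟨g, -, hg⟩ := h0
    refine Set.mem_iUnion₂.2 ⟨g, Finset.mem_univ _, ?_⟩
    rw [zero_vadd]
    refine (hS g a).2 ?_
    simpa [smul_sub, smul_X, smul_C, sub_eq_zero] using hg
  obtain ⟨g, -, hg⟩ := AddSubgroup.exists_finiteIndex_of_leftCoset_cover (H := S) (g := fun _ => (0 : A)) hcov
  refine ⟨g, fun a => (hS g a).1 ?_⟩
  by_contra ha
  have hinj : Function.Injective fun s : S g => QuotientAddGroup.mk (s := S g) ((s : A) * a) := by
    intro s t hst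
    have h1 : (s : A) * a - (t : A) * a ∈ S g := by
      have h2 := (QuotientAddGroup.eq_iff_sub_mem).1 hst
      exact h2
    rw [← sub_mul, hS, map_mul, smul_mul', map_mul, (hS g _).1 (sub_mem s.2 t.2)] at h1
    rcases mul_eq_mul_left_iff.1 h1 with h2 | h2
    · exact absurd ((hS g a).2 h2) ha
    · exact Subtype.ext (sub_eq_zero.1 ((smul_eq_zero_iff_eq g).1 (hj (h2.trans (map_zero j₁).symm))))
  haveI : Finite (A ⧸ S g) := (AddSubgroup.finite_quotient_of_finiteIndex : Finite (A ⧸ S g))
  haveI : Finite (S g) := Finite.of_injective _ hinj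
  haveI : Finite A := Finite.of_equiv _ (AddSubgroup.addGroupEquivQuotientProdAddSubgroup (s := S g)).symm
  exact not_finite A

end PurityLib
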