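import Groth.Agent.PurityLib.Basic
import Mathlib.RingTheory.UniqueFactorizationDomain.Basic

/-!
# The reflexive hull of an algebra étale off the closed point
-/

set_option autoImplicit false
set_option linter.style.haveILetI false
set_option linter.unusedSectionVars false

universe u

open scoped TensorProduct nonZeroDivisors
open IsLocalRing

namespace PurityLib

variable {A : Type u} [CommRing A]

/-- Divisibility in a factorial ring is detected in height at most one. -/
theorem dvd_of_forall_height_le_one [IsDomain A] [IsNoetherianRing A] [UniqueFactorizationMonoid A]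
    {u : A} (hu : u ≠ 0) : ∀ a : A, (∀ (p : Ideal A) [p.IsPrime], p.height ≤ 1 → ∃ t ∉ p, u ∣ t * a) → u ∣ a := by
  induction u using UniqueFactorizationMonoid.induction_on_prime with
  | h₁ => exact absurd rfl hu
  | h₂ x hx => exact fun a _ => hx.dvd
  | h₃ v π hv hπ ih =>
    intro a h
    obtain ⟨a₁, rfl⟩ := ih hv a fun p _ hp => by
      obtain ⟨t, ht, hd⟩ := h p hp
      exact ⟨t, ht, (dvd_mul_left v π).trans hd⟩
    haveI : (Ideal.span {π}).IsPrime := (Ideal.span_singleton_prime hπ.ne_zero).2 hπ
    obtain ⟨t, ht, d, hd⟩ := h (Ideal.span {π}) (Ideal.height_le_one_of_isPrincipal_of_mem_minimalPrimes (Ideal.span {π}) (Ideal.span {π})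
      (by rw [Ideal.minimalPrimes_eq_subsingleton_self]; rfl))
    have h1 : t * a₁ = π * d := mul_left_cancel₀ hv (by linear_combination hd)
    obtain ⟨a₂, rfl⟩ := (hπ.dvd_or_dvd ⟨d, h1⟩).resolve_left fun h2 => ht (Ideal.mem_span_singleton.2 h2)
    exact ⟨a₂, by ring⟩

variable [IsLocalRing A]

theorem ne_maximal_of_height_le_one (hdim : (2 : WithBot ℕ∞) ≤ ringKrullDim A) (p : Ideal A) [p.IsPrime]
    (hp : p.height ≤ 1) : p ≠ maximalIdeal A := by
  rintro rfl
  rw [← maximalIdeal_height_eq_ringKrullDim] at hdim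
  exact absurd ((WithBot.coe_le_coe.1 hdim).trans hp) (by norm_num)

variable [IsNoetherianRing A] {C : Type u} [CommRing C] [Algebra A C] [Module.Finite A C]

theorem reflOn_of_etAt {p : Ideal A} [p.IsPrime] (h : EtAt p C) : ReflexLib.ReflOn p.primeCompl C := by
  haveI : Algebra.Etale (Localization.AtPrime p) (Localization.AtPrime p ⊗[A] C) := h
  haveI : Module.Free (Localization.AtPrime p) (Localization.AtPrime p ⊗[A] C) := Module.free_of_flat_of_isLocalRing
  exact (ReflexLib.isReflexive_iff_reflOn p.primeCompl (Localization.AtPrime p)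
    (TensorProduct.mk A (Localization.AtPrime p) C 1)).1 inferInstance

variable [IsDomain A] [IsIntegrallyClosed A] [UniqueFactorizationMonoid A]

/-- The extension of a form to the generic fibre. -/
noncomputable def extForm (φ : Module.Dual A C) : FractionRing A ⊗[A] C →ₗ[A] FractionRing A :=
  (TensorProduct.rid A (FractionRing A)).toLinearMap ∘ₗ LinearMap.lTensor (FractionRing A) φ

theorem extForm_tmul (φ : Module.Dual A C) (k : FractionRing A) (c : C) :
    extForm φ (k ⊗ₜ[A] c) = algebraMap A (FractionRing A) (φ c) * k := by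
  rw [extForm, LinearMap.comp_apply, LinearMap.lTensor_tmul, LinearEquiv.coe_coe, TensorProduct.rid_tmul,
    Algebra.smul_def]

theorem exists_eval_smul_zero {c : C} (h : Module.Dual.eval A C c = 0) : ∃ u : A, u ≠ 0 ∧ u • c = 0 := by
  obtain ⟨u, hu, huc⟩ := ((ReflexLib.reflOn_iff (M := C) (⊥ : Ideal A)).1 (by
    haveI : IsDomain (Localization.AtPrime (⊥ : Ideal A)) :=
      IsLocalization.isDomain_localization (Ideal.primeCompl_le_nonZeroDivisors _)
    have hm : maximalIdeal (Localization.AtPrime (⊥ : Ideal A)) = ⊥ := by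
      rw [← Localization.AtPrime.map_eq_maximalIdeal, Ideal.map_bot]
    letI := (IsLocalRing.isField_iff_maximalIdeal_eq.2 hm).toField
    infer_instance)).1 c h
  exact ⟨u, hu, huc⟩

set_option synthInstance.maxHeartbeats 100000 in
theorem exists_hull (hdim : (2 : WithBot ℕ∞) ≤ ringKrullDim A)
    (hC : ∀ (p : Ideal A) [p.IsPrime], p ≠ maximalIdeal A → EtAt p C) :
    ∃ (D : Type u) (_ : CommRing D) (_ : Algebra A D) (φ : C →ₐ[A] D), Module.Finite A D ∧
      Module.IsReflexive A D ∧ ∀ (p : Ideal A) [p.IsPrime], p ≠ maximalIdeal A → BijAt p φ.toLinearMap := by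
  classical
  let K := FractionRing A
  let L := K ⊗[A] C
  let ι : C →ₐ[A] L := Algebra.TensorProduct.includeRight
  haveI : IsLocalizedModule A⁰ (TensorProduct.mk A K C 1) := inferInstance
  have hsurj : ∀ x : L, ∃ u : A, u ≠ 0 ∧ ∃ c, u • x = ι c := fun x => by
    obtain ⟨⟨c, u⟩, h⟩ := IsLocalizedModule.surj A⁰ (TensorProduct.mk A K C 1) x
    exact ⟨u, nonZeroDivisors.ne_zero u.2, c, h⟩
  have hker : ∀ c, ι c = 0 → ∃ u : A, u ≠ 0 ∧ u • c = 0 := fun c hc => by
    obtain ⟨u, hu⟩ := (IsLocalizedModule.eq_zero_iff A⁰ (TensorProduct.mk A K C 1)).1 hc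
    exact ⟨u, nonZeroDivisors.ne_zero u.2, hu⟩
  have hker' : ∀ (c : C) (u : A), u ≠ 0 → u • c = 0 → ι c = 0 := fun c u hu h =>
    (IsLocalizedModule.eq_zero_iff A⁰ (TensorProduct.mk A K C 1)).2
      ⟨⟨u, mem_nonZeroDivisors_of_ne_zero hu⟩, h⟩
  have hcan : ∀ (x y : L) (u : A), u ≠ 0 → u • x = u • y → x = y := fun x y u hu h =>
    IsLocalizedModule.smul_injective (TensorProduct.mk A K C 1) (⟨u, mem_nonZeroDivisors_of_ne_zero hu⟩ : A⁰) h
  let D : Subalgebra A L :=
    { carrier := {x | ∀ (p : Ideal A) [p.IsPrime], p ≠ maximalIdeal A → ∃ t ∉ p, ∃ c, t • x = ι c}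
      mul_mem' := fun {x y} hx hy p _ hp => by
        obtain ⟨t, ht, c, hc⟩ := hx p hp
        obtain ⟨s, hs, d, hd⟩ := hy p hp
        exact ⟨t * s, fun h => (Ideal.IsPrime.mem_or_mem ‹_› h).elim ht hs, c * d, by
          rw [map_mul, ← hc, ← hd, smul_mul_smul_comm]⟩
      add_mem' := fun {x y} hx hy p _ hp => by
        obtain ⟨t, ht, c, hc⟩ := hx p hp
        obtain ⟨s, hs, d, hd⟩ := hy p hp
        exact ⟨t * s, fun h => (Ideal.IsPrime.mem_or_mem ‹_› h).elim ht hs, s • c + t • d, by
          rw [map_add, map_smul, map_smul, ← hc, ← hd, smul_add, mul_smul, mul_smul, smul_comm t s x]⟩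
      algebraMap_mem' := fun a p _ hp => ⟨1, p.primeCompl.one_mem, algebraMap A C a, by rw [one_smul, ι.commutes]⟩ }
  have hval : ∀ (x : D) (φ : Module.Dual A C), ∃ a : A, algebraMap A K a = extForm φ (x : L) := by
    intro x φ
    obtain ⟨⟨a, u⟩, h⟩ := IsLocalization.surj A⁰ (extForm φ (x : L))
    have hu0 : (u : A) ≠ 0 := nonZeroDivisors.ne_zero u.2
    obtain ⟨a', ha'⟩ := dvd_of_forall_height_le_one hu0 a fun p _ hp => by
      obtain ⟨t, ht, c, hc⟩ := x.2 p (ne_maximal_of_height_le_one hdim p hp)
      refine ⟨t, ht, φ c, IsFractionRing.injective A K ?_⟩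
      have h1 := congrArg (extForm φ) hc
      rw [map_smul, show ι c = (1 : K) ⊗ₜ[A] c from rfl, extForm_tmul, mul_one, Algebra.smul_def] at h1
      rw [map_mul, map_mul, ← h1, ← h]
      ring
    refine ⟨a', ?_⟩
    have hu1 : algebraMap A K (u : A) ≠ 0 := (map_ne_zero_iff _ (IsFractionRing.injective A K)).2 hu0
    apply mul_left_cancel₀ hu1
    rw [← map_mul, ← ha', ← h, mul_comm]
  choose v hv using hval
  let e : D →ₗ[A] Module.Dual A (Module.Dual A C) :=
    { toFun := fun x =>
        { toFun := v x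
          map_add' := fun φ ψ => IsFractionRing.injective A K (by
            rw [map_add, hv, hv, hv, extForm, extForm, extForm, LinearMap.lTensor_add, LinearMap.comp_add, LinearMap.add_apply])
          map_smul' := fun a φ => IsFractionRing.injective A K (by
            rw [smul_eq_mul, map_mul, hv, hv, extForm, extForm, LinearMap.lTensor_smul, LinearMap.comp_smul,
              LinearMap.smul_apply, Algebra.smul_def, RingHom.id_apply]) }
      map_add' := fun x y => LinearMap.ext fun φ => IsFractionRing.injective A K (by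
        rw [LinearMap.add_apply, map_add]
        show algebraMap A K (v (x + y) φ) = algebraMap A K (v x φ) + algebraMap A K (v y φ)
        rw [hv, hv, hv]
        exact map_add _ _ _)
      map_smul' := fun a x => LinearMap.ext fun φ => IsFractionRing.injective A K (by
        show algebraMap A K (v (a • x) φ) = algebraMap A K (a * v x φ)
        rw [map_mul, hv, hv, ← Algebra.smul_def]
        exact map_smul _ _ _) }
  have he : ∀ x φ, algebraMap A K (e x φ) = extForm φ (x : L) := hv
  have hbij : Function.Bijective e := by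
    refine ⟨fun x y hxy => ?_, fun ξ => ?_⟩
    · obtain ⟨u, hu, c, hc⟩ := hsurj ((x : L) - (y : L))
      have hev : Module.Dual.eval A C c = 0 := LinearMap.ext fun φ => IsFractionRing.injective A K (by
        rw [LinearMap.zero_apply, map_zero, Module.Dual.eval_apply]
        have h1 := congrArg (extForm φ) hc
        rw [map_smul, map_sub, ← he, ← he, hxy, sub_self, smul_zero,
          show ι c = (1 : K) ⊗ₜ[A] c from rfl, extForm_tmul, mul_one] at h1
        exact h1.symm)
      obtain ⟨w, hw, hwc⟩ := exists_eval_smul_zero hev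
      refine Subtype.ext (hcan _ _ u hu ?_)
      rw [← sub_eq_zero, ← hker' c w hw hwc, ← hc]
      exact (smul_sub u (x : L) (y : L)).symm
    · obtain ⟨c₀, hc₀, b, hb⟩ := ReflexLib.exists_smul_eq_eval ξ
      let x : L := (algebraMap A K c₀)⁻¹ ⊗ₜ[A] b
      have hc₀' : algebraMap A K c₀ ≠ 0 := (map_ne_zero_iff _ (IsFractionRing.injective A K)).2 hc₀
      have hx0 : c₀ • x = ι b := by
        rw [TensorProduct.smul_tmul', Algebra.smul_def, mul_inv_cancel₀ hc₀']
        rfl
      have hmem : x ∈ D := fun p _ hp => by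
        obtain ⟨t, ht, c, hc⟩ := (reflOn_of_etAt (hC p hp)).2 ξ
        refine ⟨t, ht, c, hcan _ _ c₀ hc₀ ?_⟩
        have hev : Module.Dual.eval A C (c₀ • c - t • b) = 0 := by
          rw [map_sub, map_smul, map_smul, hc, hb, smul_comm, sub_self]
        obtain ⟨w, hw, hwc⟩ := exists_eval_smul_zero hev
        have h1 := hker' _ w hw hwc
        rw [map_sub, map_smul, map_smul, sub_eq_zero] at h1
        rw [h1, smul_comm c₀ t x, hx0]
      refine ⟨⟨x, hmem⟩, LinearMap.ext fun φ => IsFractionRing.injective A K ?_⟩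
      rw [he, extForm_tmul]
      have h1 := congrArg (algebraMap A K) (LinearMap.congr_fun hb φ)
      rw [Module.Dual.eval_apply, LinearMap.smul_apply, smul_eq_mul, map_mul] at h1
      rw [h1, mul_comm (algebraMap A K c₀), mul_assoc, mul_inv_cancel₀ hc₀', mul_one]
  let E := LinearEquiv.ofBijective e hbij
  haveI : Module.Finite A D := Module.Finite.equiv E.symm
  haveI : Module.IsReflexive A (Module.Dual A (Module.Dual A C)) := ReflexLib.isReflexive_dual
  refine ⟨D, inferInstance, inferInstance,
    ι.codRestrict D fun c p _ hp => ⟨1, p.primeCompl.one_mem, c, one_smul _ _⟩,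
    inferInstance, Module.equiv E.symm, fun p _ hp => ⟨fun c hc => ?_, fun x => ?_⟩⟩
  · obtain ⟨w, hw, hwc⟩ := hker c (congrArg Subtype.val hc)
    refine (reflOn_of_etAt (hC p hp)).1 c (LinearMap.ext fun φ => ?_)
    have h1 := congrArg φ hwc
    rw [map_smul, map_zero, smul_eq_mul] at h1
    exact (mul_eq_zero.1 h1).resolve_left hw
  · obtain ⟨t, ht, c, hc⟩ := x.2 p hp
    exact ⟨t, ht, c, Subtype.ext hc.symm⟩

end PurityLib
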