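import Groth.Agent.PurityLib.Galois
import Groth.Agent.PurityLib.FlatPurity
import Groth.Agent.InertiaEtaleLib.Lift
import Mathlib.Algebra.Ring.ULift
import Mathlib.Algebra.Ring.Action.Subobjects

/-!
# The group is generated by inertia in height one
-/

set_option autoImplicit false
set_option linter.style.haveILetI false
set_option linter.unusedSectionVars false

universe u v w

open IsLocalRing
open scoped Pointwise

namespace PurityLib

variable {A : Type v} [CommRing A] {H : Type w} [Group H] [MulSemiringAction H A]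

theorem smul_fixed_of_normal (N : Subgroup H) [N.Normal] (g : H) (x : A) (hx : ∀ n ∈ N, n • x = x) :
    ∀ n ∈ N, n • g • x = g • x := fun n hn => by
  have h1 : g⁻¹ * n * g ∈ N := by simpa using ‹N.Normal›.conj_mem n hn g⁻¹
  calc n • g • x = g • (g⁻¹ * n * g) • x := by rw [smul_smul, smul_smul]; group
    _ = g • x := by rw [hx _ h1]

theorem inertia_smul_mem (P : Ideal A) (g t : H) (ht : t ∈ P.inertia H) : g * t * g⁻¹ ∈ (g • P).inertia H := fun x => by
  show (g * t * g⁻¹) • x - x ∈ g • P
  have h := Ideal.smul_mem_pointwise_smul g _ _ (ht (g⁻¹ • x))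
  rwa [smul_sub, smul_inv_smul, ← mul_smul, ← mul_smul] at h

theorem isIntegrallyClosed_of_saturated {C : Type u} {A : Type v} [CommRing C] [IsDomain C] [CommRing A] [IsDomain A]
    [IsIntegrallyClosed A] (ι : C →+* A) (hι : Function.Injective ι)
    (hsat : ∀ (x y : C) (a : A), y ≠ 0 → a * ι y = ι x → ∃ c, ι c = a) : IsIntegrallyClosed C := by
  let K := FractionRing C
  let L := FractionRing A
  rw [isIntegrallyClosed_iff K]
  intro x hx
  obtain ⟨a, b, hb, rfl⟩ := IsFractionRing.div_surjective (A := C) x
  let ιL : C →+* L := (algebraMap A L).comp ι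
  have hιL : Function.Injective ιL := (IsFractionRing.injective A L).comp hι
  let f : K →+* L := IsFractionRing.lift hιL
  have hf : ∀ z : C, f (algebraMap C K z) = algebraMap A L (ι z) := fun z => IsFractionRing.lift_algebraMap hιL z
  obtain ⟨q, hq, hq0⟩ := hx
  have hint : IsIntegral A (f (algebraMap C K a / algebraMap C K b)) := by
    refine ⟨q.map ι, hq.map _, ?_⟩
    rw [Polynomial.eval₂_map]
    have h1 := congrArg f hq0
    rw [map_zero, Polynomial.hom_eval₂] at h1
    rw [show (algebraMap A L).comp ι = f.comp (algebraMap C K) from RingHom.ext fun z => (hf z).symm]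
    exact h1
  obtain ⟨c, hc⟩ := IsIntegrallyClosed.algebraMap_eq_of_integral hint
  have hb0 : b ≠ 0 := nonZeroDivisors.ne_zero hb
  have hbne : ι b ≠ 0 := (map_ne_zero_iff ι hι).2 hb0
  rw [map_div₀, hf, hf, eq_div_iff (by rw [Ne, IsFractionRing.to_map_eq_zero_iff]; exact hbne), ← map_mul] at hc
  obtain ⟨c', hc'⟩ := hsat a b c hb0 (IsFractionRing.injective A L hc)
  refine ⟨c', f.injective ?_⟩
  rw [hf, hc', map_div₀, hf, hf, eq_div_iff (by rw [Ne, IsFractionRing.to_map_eq_zero_iff]; exact hbne), ← map_mul]
  exact hc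

theorem mem_range_of_residue {R C : Type u} [CommRing R] [IsLocalRing R] [CommRing C] [Algebra R C] [Module.Finite R C]
    (hres : ∀ c : C, ∃ r : R, c - algebraMap R C r ∈ (maximalIdeal R).map (algebraMap R C)) :
    Function.Surjective (algebraMap R C) := by
  have hle : (⊤ : Submodule R C) ≤ LinearMap.range (Algebra.linearMap R C) ⊔ maximalIdeal R • (⊤ : Submodule R C) := by
    intro c _
    obtain ⟨r, hr⟩ := hres c
    rw [← sub_add_cancel c (algebraMap R C r), add_comm]
    refine Submodule.add_mem_sup ⟨r, rfl⟩ ?_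
    rwa [Ideal.smul_top_eq_map]
  have h := Submodule.le_of_le_smul_of_le_jacobson_bot Module.Finite.fg_top (jacobson_eq_maximalIdeal ⊥ bot_ne_top).ge hle
  exact fun c => h (Submodule.mem_top (x := c))

set_option maxHeartbeats 1000000 in
theorem eq_top_of_inertia_le (R : Type u) [CommRing R] [IsRegularLocalRing R]
    (A : Type v) [CommRing A] [IsDomain A] [IsIntegrallyClosed A] [IsLocalRing A]
    [Algebra R A] [Module.Finite R A] (hinj : Function.Injective (algebraMap R A))
    (hres : Function.Surjective (residue A ∘ algebraMap R A))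
    (H : Type w) [Group H] [Finite H] [MulSemiringAction H A] [SMulCommClass H R A] [FaithfulSMul H A]
    (hfix : ∀ a : A, (∀ h : H, h • a = a) → a ∈ Set.range (algebraMap R A))
    (N : Subgroup H) [N.Normal] (hN : ∀ P : Ideal A, P.IsPrime → P.height = 1 → P.inertia H ≤ N) : N = ⊤ := by
  classical
  haveI : IsDomain R := CommAlgDim.isDomain_of_isRegularLocalRing R
  haveI : IsNoetherianRing A := IsNoetherianRing.of_finite R A
  haveI : Algebra.IsIntegral R A := Algebra.IsIntegral.of_finite R A
  by_cases hf : IsField R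
  · have hA : IsField A := isField_of_isIntegral_of_isField' hf
    have htriv : Function.Surjective (algebraMap R A) := fun a => by
      obtain ⟨r, hr⟩ := hres (residue A a)
      have h0 : residue A (algebraMap R A r - a) = 0 := by rw [map_sub, sub_eq_zero]; exact hr
      rw [residue_eq_zero_iff, IsLocalRing.isField_iff_maximalIdeal_eq.1 hA, Ideal.mem_bot, sub_eq_zero] at h0
      exact ⟨r, h0⟩
    refine eq_top_iff.2 fun h _ => ?_
    have : h = 1 := FaithfulSMul.eq_of_smul_eq_smul fun a : A => by
      obtain ⟨r, rfl⟩ := htriv a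
      rw [smul_algebraMap, one_smul]
    rw [this]; exact one_mem N
  haveI : Infinite A := by
    by_contra hinf
    haveI : Finite A := not_infinite_iff_finite.1 hinf
    exact hf (isField_of_isIntegral_of_isField hinj (Finite.isField_of_domain A))
  let C₀ := FixedPoints.subalgebra R A N
  let C := ULift.{u} C₀
  let R' := ULift.{v} R
  have hC₀ : ∀ c : C₀, ∀ n ∈ N, n • (c : A) = c := fun c n hn => c.2 ⟨n, hn⟩
  have hmem : ∀ (g : H) (c : C₀), g • (c : A) ∈ C₀ := fun g c n => smul_fixed_of_normal (A := A) N g (c : A) (hC₀ c) n n.2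
  haveI : IsRegularLocalRing R' := IsRegularLocalRing.of_ringEquiv ULift.ringEquiv.symm
  haveI : IsDomain R' := CommAlgDim.isDomain_of_isRegularLocalRing R'
  letI : Algebra R' C :=
    { toSMul := inferInstance
      algebraMap := (ULift.ringEquiv (R := C₀)).symm.toRingHom.comp ((algebraMap R C₀).comp
        (ULift.ringEquiv (R := R)).toRingHom)
      commutes' := fun r c => mul_comm _ _
      smul_def' := fun r c => ULift.ext _ _ (Algebra.smul_def r.down c.down) }
  let ι : C →+* A := C₀.val.toRingHom.comp (ULift.ringEquiv (R := C₀)).toRingHom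
  have hι : Function.Injective ι := Subtype.val_injective.comp (ULift.ringEquiv (R := C₀)).injective
  have hιR : ∀ r : R', ι (algebraMap R' C r) = algebraMap R A r.down := fun r => rfl
  haveI : IsDomain C := hι.isDomain ι
  haveI : IsNoetherianRing R := inferInstance
  haveI : Module.Finite R C₀ := Module.Finite.of_injective C₀.val.toLinearMap Subtype.val_injective
  haveI : Module.Finite R' C := by
    obtain ⟨S, hS⟩ := Module.Finite.fg_top (R := R) (M := C₀)
    refine ⟨⟨S.image ULift.up, eq_top_iff.2 fun c _ => ?_⟩⟩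
    obtain ⟨c⟩ := c
    have hc : c ∈ Submodule.span R (S : Set C₀) := hS ▸ Submodule.mem_top
    clear * - hc
    induction hc using Submodule.span_induction with
    | mem x hx => exact Submodule.subset_span (Finset.mem_coe.2 (Finset.mem_image_of_mem _ hx))
    | zero => exact zero_mem _
    | add x y _ _ hx hy => exact add_mem hx hy
    | smul r x _ hx =>
      have : (⟨r • x⟩ : C) = (⟨r⟩ : R') • (⟨x⟩ : C) := rfl
      rw [this]
      exact Submodule.smul_mem _ _ hx
  haveI : IsIntegrallyClosed C := isIntegrallyClosed_of_saturated ι hι fun x y a hy h => by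
    refine ⟨⟨⟨a, fun n => mul_right_cancel₀ ((map_ne_zero_iff ι hι).2 hy) ?_⟩⟩, rfl⟩
    have hy' : (n : H) • ι y = ι y := y.down.2 n
    have hx' : (n : H) • ι x = ι x := x.down.2 n
    show (n : H) • a * ι y = a * ι y
    calc (n : H) • a * ι y = (n : H) • (a * ι y) := by rw [smul_mul', hy']
      _ = a * ι y := by rw [h, hx']
  -- the action of `H ⧸ N`
  let toAut : H →* (C ≃+* C) :=
    { toFun := fun g =>
        { toFun := fun c => ⟨⟨g • (ι c), hmem g c.down⟩⟩
          invFun := fun c => ⟨⟨g⁻¹ • (ι c), hmem g⁻¹ c.down⟩⟩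
          left_inv := fun c => hι (inv_smul_smul g (ι c))
          right_inv := fun c => hι (smul_inv_smul g (ι c))
          map_mul' := fun c d => hι (by
            show g • ι (c * d) = ι (_ * _)
            rw [map_mul, map_mul, smul_mul']
            rfl)
          map_add' := fun c d => hι (by
            show g • ι (c + d) = ι (_ + _)
            rw [map_add, map_add, smul_add]
            rfl) }
      map_one' := RingEquiv.ext fun c => hι (one_smul H (ι c))
      map_mul' := fun g g' => RingEquiv.ext fun c => hι (mul_smul g g' (ι c)) }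
  have hker : N ≤ toAut.ker := fun n hn => RingEquiv.ext fun c => hι (c.down.2 ⟨n, hn⟩)
  let Q0 := toAut.range
  haveI : Finite Q0 := Finite.of_surjective toAut.rangeRestrict toAut.rangeRestrict_surjective
  have hsmul : ∀ (g : H) (c : C), ι ((⟨toAut g, g, rfl⟩ : Q0) • c) = g • ι c := fun g c => rfl
  haveI : SMulCommClass Q0 R' C := ⟨fun g r c => by
    obtain ⟨_, g, rfl⟩ := g
    refine hι ?_
    rw [hsmul, Algebra.smul_def, Algebra.smul_def, map_mul, map_mul, hsmul, hιR, smul_mul', smul_algebraMap]⟩
  haveI : Algebra.IsInvariant R' C Q0 := ⟨fun c hc => by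
    obtain ⟨r, hr⟩ := hfix (ι c) fun g => (hsmul g c).symm.trans (congrArg ι (hc _))
    exact ⟨⟨r⟩, hι ((hιR _).trans hr)⟩⟩
  have hinj' : Function.Injective (algebraMap R' C) := fun r r' h => ULift.ext _ _ (hinj (by rw [← hιR, ← hιR, h]))
  have hdim : (1 : WithBot ℕ∞) ≤ ringKrullDim R' := by
    rw [← maximalIdeal_height_eq_ringKrullDim]
    refine WithBot.coe_le_coe.2 (ENat.one_le_iff_ne_zero.2 fun h0 => hf ?_)
    rw [Ideal.height_eq_zero_iff, IsDomain.minimalPrimes_eq_singleton_bot, Set.mem_singleton_iff] at h0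
    exact (ULift.ringEquiv (R := R)).symm.toMulEquiv.isField (IsLocalRing.isField_iff_maximalIdeal_eq.2 h0)
  letI : Algebra C A := ι.toAlgebra
  haveI : IsScalarTower R C₀ A := inferInstance
  haveI : Algebra.IsIntegral C A := ⟨fun a => by
    obtain ⟨P, hP, hPa⟩ := Algebra.IsIntegral.isIntegral (R := R) a
    refine ⟨P.map ((algebraMap R' C).comp (ULift.ringEquiv (R := R)).symm.toRingHom), hP.map _, ?_⟩
    rw [Polynomial.eval₂_map]
    exact hPa⟩
  haveI : IsNoetherianRing C := IsNoetherianRing.of_finite R' C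
  haveI : Algebra.Etale R' C := etale_of_normal_finite R' C hinj' hdim fun Q _ hQ => by
    refine isUnramifiedAt_of_inertia_eq_bot R' C Q0 Q (eq_bot_iff.2 fun g hg => ?_)
    obtain ⟨_, g, rfl⟩ := g
    obtain ⟨P, -, hP, hPQ⟩ := Ideal.exists_ideal_over_prime_of_isIntegral (S := A) Q ⊥ (by
      rw [show algebraMap C A = ι from rfl, ← RingHom.ker_eq_comap_bot, (RingHom.injective_iff_ker_eq_bot _).1 hι]; exact bot_le)
    haveI := hP
    obtain ⟨n, hn, hni⟩ := InertiaEtaleLib.exists_mul_mem_inertia N P g fun x hx => by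
      let c : C := ⟨⟨x, fun n => hx n n.2⟩⟩
      have h1 : (⟨toAut g, g, rfl⟩ : Q0) • c - c ∈ P.comap ι := hPQ.symm ▸ hg c
      exact h1
    have hP1 : P.height = 1 := by
      have h2 : P.height ≤ Q.height := (height_le_under' (A := C) P).trans (congrArg Ideal.height hPQ).le
      refine le_antisymm (h2.trans hQ.le) (ENat.one_le_iff_ne_zero.2 fun h0 => ?_)
      rw [Ideal.height_eq_zero_iff, IsDomain.minimalPrimes_eq_singleton_bot, Set.mem_singleton_iff] at h0
      rw [h0, ← RingHom.ker_eq_comap_bot] at hPQ
      rw [← hPQ, show RingHom.ker (algebraMap C A) = ⊥ from (RingHom.injective_iff_ker_eq_bot _).1 hι,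
        Ideal.height_bot] at hQ
      exact zero_ne_one hQ
    have hgN : g ∈ N := by simpa using N.mul_mem (N.inv_mem hn) (hN P hP hP1 hni)
    rw [Subgroup.mem_bot]
    exact Subtype.ext (hker hgN)
  haveI : IsLocalRing C := IsLocalRing.of_unique_max_ideal ⟨(maximalIdeal A).comap ι,
    Ideal.isMaximal_comap_of_isIntegral_of_isMaximal (R := C) (maximalIdeal A), fun M hM => by
      obtain ⟨P, -, hP, hPM⟩ := Ideal.exists_ideal_over_prime_of_isIntegral (S := A) M ⊥ (by
        rw [show algebraMap C A = ι from rfl, ← RingHom.ker_eq_comap_bot, (RingHom.injective_iff_ker_eq_bot _).1 hι]; exact bot_le)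
      haveI := hP
      haveI : P.IsMaximal := Ideal.isMaximal_of_isIntegral_of_isMaximal_comap P (hPM.symm ▸ hM)
      rw [← hPM, eq_maximalIdeal this]
      rfl⟩
  haveI : IsLocalHom (algebraMap R' C) := RingHom.IsIntegral.isLocalHom (Algebra.IsIntegral.isIntegral) hinj'
  have hm : (maximalIdeal R').map (algebraMap R' C) = maximalIdeal C := Algebra.FormallyUnramified.map_maximalIdeal
  have hmC : (maximalIdeal A).comap ι = maximalIdeal C :=
    eq_maximalIdeal (Ideal.isMaximal_comap_of_isIntegral_of_isMaximal (R := C) (maximalIdeal A))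
  have hsurj : Function.Surjective (algebraMap R' C) := mem_range_of_residue fun c => by
    obtain ⟨r, hr⟩ := hres (residue A (ι c))
    refine ⟨⟨r⟩, ?_⟩
    rw [hm, ← hmC, Ideal.mem_comap, map_sub, hιR]
    exact Ideal.Quotient.eq.1 hr.symm
  refine eq_top_iff.2 fun h _ => ?_
  obtain ⟨n, hn⟩ := exists_smul_of_eqOn (G := N) (RingHom.id A) (MulSemiringAction.toRingHom H A h)
    Function.injective_id fun a ha => by
      obtain ⟨r, hr⟩ := hsurj ⟨⟨a, ha⟩⟩
      have : algebraMap R A r.down = a := by rw [← hιR, hr]; rfl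
      show h • a = a
      rw [← this, smul_algebraMap]
  have : h = n := FaithfulSMul.eq_of_smul_eq_smul fun a : A => hn a
  rw [this]
  exact n.2

end PurityLib
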