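import Groth.Agent.PurityLib.Core

/-!
# Zariski–Nagata purity
-/

set_option autoImplicit false
set_option linter.style.haveILetI false
set_option linter.unusedSectionVars false

universe u

open scoped TensorProduct
open IsLocalRing

namespace PurityLib

variable {A : Type u} [CommRing A]

theorem exists_span_of_height_le_one [IsDomain A] [IsNoetherianRing A] [UniqueFactorizationMonoid A] (p : Ideal A)
    [p.IsPrime] (hp : p.height ≤ 1) : ∃ g, p = Ideal.span {g} := by
  by_cases h0 : p = ⊥
  · exact ⟨0, by rw [h0, Ideal.span_singleton_eq_bot.2 rfl]⟩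
  obtain ⟨g, hgp, hg⟩ := Ideal.IsPrime.exists_mem_prime_of_ne_bot ‹_› h0
  haveI : (Ideal.span {g}).IsPrime := (Ideal.span_singleton_prime hg.ne_zero).2 hg
  refine ⟨g, le_antisymm ?_ ((Ideal.span_singleton_le_iff_mem _).2 hgp)⟩
  by_contra hle
  have hlt : Ideal.span {g} < p := lt_of_le_not_ge ((Ideal.span_singleton_le_iff_mem _).2 hgp) hle
  have h1 := Ideal.height_strict_mono_of_isPrime hlt
  have h2 : (0 : ℕ∞) < (Ideal.span {g}).height := by
    have hlt' : (⊥ : Ideal A) < Ideal.span {g} := bot_lt_iff_ne_bot.2 fun h => hg.ne_zero (Ideal.span_singleton_eq_bot.1 h)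
    exact lt_of_le_of_lt zero_le (Ideal.height_strict_mono_of_isPrime hlt')
  have h3 : (1 : ℕ∞) ≤ (Ideal.span {g}).height := ENat.one_le_iff_ne_zero.2 h2.ne'
  exact absurd (h1.trans_le hp) (not_lt.2 h3)

section Local

variable [IsLocalRing A]

theorem exists_prime_above [IsDomain A] [IsNoetherianRing A] [UniqueFactorizationMonoid A]
    (hdim : (3 : ℕ∞) ≤ (maximalIdeal A).height) {f : A} (hf : f ∈ maximalIdeal A) (p : Ideal A) [p.IsPrime]
    (hp : p.height ≤ 1) : ∃ (q : Ideal A) (_ : q.IsPrime), p ≤ q ∧ f ∈ q ∧ q ≠ maximalIdeal A := by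
  classical
  obtain ⟨g, rfl⟩ := exists_span_of_height_le_one p hp
  have hle : Ideal.span (↑({f, g} : Finset A) : Set A) ≤ maximalIdeal A := by
    rw [Ideal.span_le, Finset.coe_insert, Finset.coe_singleton]
    exact Set.insert_subset hf (Set.singleton_subset_iff.2
      (le_maximalIdeal (Ideal.IsPrime.ne_top ‹_›) (Ideal.mem_span_singleton_self g)))
  obtain ⟨q, hq, -⟩ := Ideal.exists_minimalPrimes_le hle
  haveI := hq.1.1
  have hsub : ∀ z ∈ ({f, g} : Finset A), z ∈ q := fun z hz => hq.1.2 (Ideal.subset_span (Finset.mem_coe.2 hz))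
  refine ⟨q, inferInstance, (Ideal.span_singleton_le_iff_mem _).2 (hsub g (by simp)), hsub f (by simp), fun hqm => ?_⟩
  subst hqm
  have h2 : (maximalIdeal A).height ≤ 2 := (Ideal.height_le_card_of_mem_minimalPrimes_span_finset hq).trans
    (by exact_mod_cast Finset.card_le_two)
  exact absurd (hdim.trans h2) (by norm_num)

theorem not_isUnit_of_prime_mem {f : A} (hf : f ∈ maximalIdeal A) : ¬ IsUnit f := hf

/-- The extension property: a finite algebra étale off the closed point extends to a finite étale one. -/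
def Ext (A : Type u) [CommRing A] [IsLocalRing A] : Prop :=
  ∀ (C : Type u) [CommRing C] [Algebra A C] [Module.Finite A C],
    (∀ (p : Ideal A) [p.IsPrime], p ≠ maximalIdeal A → EtAt p C) →
      ∃ (D : Type u) (_ : CommRing D) (_ : Algebra A D) (φ : C →ₐ[A] D), Module.Finite A D ∧ Algebra.Etale A D ∧
        ∀ (p : Ideal A) [p.IsPrime], p ≠ maximalIdeal A → BijAt p φ.toLinearMap

end Local

/-- Freeness over a complete regular ring with algebraically closed residue field. -/
theorem free_of_complete [IsRegularLocalRing A] [IsAdicComplete (maximalIdeal A) A] [IsAlgClosed (ResidueField A)]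
    {d : ℕ} (hd : (maximalIdeal A).spanFinrank = d + 1) (hd2 : 2 ≤ d)
    (ih : ∀ (A' : Type u) [CommRing A'] [IsRegularLocalRing A'], (maximalIdeal A').spanFinrank = d → Ext A')
    (B : Type u) [CommRing B] [Algebra A B] [Module.Finite A B] [Module.IsReflexive A B]
    (hB : ∀ (p : Ideal A) [p.IsPrime], p ≠ maximalIdeal A → EtAt p B) : Module.Free A B := by
  classical
  haveI : IsDomain A := CommAlgDim.isDomain_of_isRegularLocalRing A
  haveI : IsIntegrallyClosed A := NormalLib.isIntegrallyClosed_of_isRegularLocalRing A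
  haveI := ufd_of_regular A
  have hregA := (isRegularLocalRing_iff A).1 inferInstance
  have hht : (3 : ℕ∞) ≤ (maximalIdeal A).height := by
    have h1 : ((d + 1 : ℕ) : WithBot ℕ∞) = ((maximalIdeal A).height : WithBot ℕ∞) := by
      rw [← hd, hregA, maximalIdeal_height_eq_ringKrullDim]
    have h2 : ((d + 1 : ℕ) : ℕ∞) = (maximalIdeal A).height := WithBot.coe_inj.1 h1
    rw [← h2]
    exact_mod_cast (show 3 ≤ d + 1 by omega)
  have hmne : maximalIdeal A ≠ ⊥ := fun h0 => by rw [h0, Submodule.spanFinrank_bot] at hd; omega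
  obtain ⟨f, hfm, hf2, -⟩ := CommAlgDim.exists_mem_notMem_sq (R := A) (S := ∅) Set.finite_empty
    (by simp) (by simp) hmne
  haveI hne' : Nontrivial (A ⧸ Ideal.span {f}) :=
    CommAlgDim.nontrivial_quotient (fun h => hfm (Ideal.span_singleton_eq_top.1 h))
  haveI hreg' := CommAlgDim.isRegularLocalRing_quotient_singleton hfm hf2
  let A' := A ⧸ Ideal.span {f}
  haveI : IsDomain A' := CommAlgDim.isDomain_of_isRegularLocalRing A'
  have hd' : (maximalIdeal A').spanFinrank = d := by
    have := CommAlgDim.spanFinrank_maximalIdeal_quotient_singleton hfm hf2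
    rw [hd] at this
    change (maximalIdeal A').spanFinrank + 1 = _ at this
    omega
  have hmap : (maximalIdeal A).map (algebraMap A A') = maximalIdeal A' :=
    IsLocalRing.map_maximalIdeal_of_surjective _ Ideal.Quotient.mk_surjective
  have hcomap : (maximalIdeal A').comap (algebraMap A A') = maximalIdeal A :=
    ((maximalIdeal.isMaximal A).eq_of_le (Ideal.comap_ne_top _ (maximalIdeal.isMaximal A').ne_top)
      (Ideal.map_le_iff_le_comap.1 hmap.le)).symm
  have hf0 : f ≠ 0 := fun h => hf2 (h ▸ Ideal.zero_mem _)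
  have hfP : Prime f := (Ideal.span_singleton_prime hf0).1 ((Ideal.Quotient.isDomain_iff_prime _).1 ‹_›)
  obtain ⟨x', hx'm, hx'2, -⟩ := CommAlgDim.exists_mem_notMem_sq (R := A') (S := ∅) Set.finite_empty
    (by simp) (by simp) (fun h0 => by rw [h0, Submodule.spanFinrank_bot] at hd'; omega)
  obtain ⟨x, rfl⟩ := Ideal.Quotient.mk_surjective x'
  haveI hne'' : Nontrivial (A' ⧸ Ideal.span {Ideal.Quotient.mk (Ideal.span {f}) x}) :=
    CommAlgDim.nontrivial_quotient (fun h => hx'm (Ideal.span_singleton_eq_top.1 h))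
  haveI hreg'' := CommAlgDim.isRegularLocalRing_quotient_singleton hx'm hx'2
  have hxprime : (Ideal.span {Ideal.Quotient.mk (Ideal.span {f}) x}).IsPrime :=
    (Ideal.Quotient.isDomain_iff_prime _).1 (CommAlgDim.isDomain_of_isRegularLocalRing _)
  have hspan : Ideal.span {f, x} = (Ideal.span {Ideal.Quotient.mk (Ideal.span {f}) x}).comap
      (Ideal.Quotient.mk (Ideal.span {f})) := by
    rw [← Set.image_singleton, ← Ideal.map_span, Ideal.comap_map_of_surjective _ Ideal.Quotient.mk_surjective,
      ← RingHom.ker_eq_comap_bot, Ideal.mk_ker, sup_comm, Set.insert_eq, Ideal.span_union]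
  haveI := hxprime
  have hP : (Ideal.span {f, x}).IsPrime := hspan ▸ Ideal.comap_isPrime _ _
  have hfx : ¬ f ∣ x := fun ⟨c, hc⟩ => hx'2 (by
    rw [Ideal.Quotient.eq_zero_iff_mem.2 (hc ▸ Ideal.mul_mem_right _ _ (Ideal.mem_span_singleton_self f))]
    exact Ideal.zero_mem _)
  have hxm : x ∈ maximalIdeal A := hcomap ▸ hx'm
  obtain ⟨y, hym, hy⟩ : ∃ y ∈ maximalIdeal A, y ∉ Ideal.span {f, x} := by
    by_contra! hall
    have hle : Ideal.span {f, x} = maximalIdeal A := le_antisymm
      (le_maximalIdeal hP.ne_top) hall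
    obtain ⟨q, hq, -, hfq, hqm⟩ := exists_prime_above hht hfm (⊥ : Ideal A) (by simp [Ideal.height_bot])
    have h2 : (maximalIdeal A).height ≤ 2 := by
      refine (Ideal.height_le_card_of_mem_minimalPrimes_span_finset (s := ({f, x} : Finset A)) ?_).trans
        (by exact_mod_cast Finset.card_le_two)
      rw [Finset.coe_insert, Finset.coe_singleton, hle, Ideal.minimalPrimes_eq_subsingleton_self]
      rfl
    exact absurd (hht.trans h2) (by norm_num)
  have hoff : ∀ (q : Ideal A') [q.IsPrime], q ≠ maximalIdeal A' → q.comap (algebraMap A A') ≠ maximalIdeal A :=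
    fun q _ hq h => hq (by
      rw [← Ideal.map_comap_of_surjective (algebraMap A A') Ideal.Quotient.mk_surjective q, h, hmap])
  let C := A' ⊗[A] B
  obtain ⟨D, _, _, φ, _, _, hφ⟩ := ih A' hd' C fun q _ hq => (hB _ (hoff q hq)).baseChange q rfl
  haveI : IsAdicComplete (maximalIdeal A') A' := by
    have h1 : IsAdicComplete (maximalIdeal A) A' := CompleteLib.isAdicComplete_of_finite
    rw [← hmap]
    exact (IsAdicComplete.map_algebraMap_iff _ _).2 h1
  haveI : HenselianLocalRing A' := HenselLib.henselianLocalRing_of_henselianRing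
  haveI : IsLocalHom (algebraMap A A') := ((IsLocalRing.local_hom_TFAE _).out 0 2).2 (le_of_eq hmap)
  haveI : IsAlgClosed (ResidueField A') :=
    IsAlgClosed.of_ringEquiv (ResidueField A) (ResidueField A') (RingEquiv.ofBijective
      (ResidueField.map (algebraMap A A')) ⟨RingHom.injective _, fun z => by
        obtain ⟨b, rfl⟩ := residue_surjective z
        obtain ⟨a, rfl⟩ := Ideal.Quotient.mk_surjective b
        exact ⟨residue A a, rfl⟩⟩)
  obtain ⟨I, _, Ψ', hΨ'⟩ := exists_split A' D
  let χ : C →ₐ[A'] (I → A') := Ψ'.comp φ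
  let π : I → (B →ₐ[A] A') := fun i => (Pi.evalAlgHom A (fun _ : I => A') i).comp
    ((χ.restrictScalars A).comp Algebra.TensorProduct.includeRight)
  choose ψ hψ using fun i => exists_lift_point hB (isAdicComplete_span hfm) hfP hfx hP hy hxm hym (π i)
  let Ψ : B →ₗ[A] (I → A) := (AlgHom.pi ψ).toLinearMap
  have hΨ : ∀ b i, Ideal.Quotient.mk (Ideal.span {f}) (Ψ b i) = χ (1 ⊗ₜ[A] b) i := fun b i => hψ i b
  have hχ : ∀ (q : Ideal A') [q.IsPrime], q ≠ maximalIdeal A' → BijAt q χ.toLinearMap := by
    intro q _ hq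
    refine ⟨fun c hc => (hφ q hq).1 c (hΨ'.1 (hc.trans (map_zero Ψ').symm)), fun v => ?_⟩
    obtain ⟨d, rfl⟩ := hΨ'.2 v
    obtain ⟨u, hu, c, hc⟩ := (hφ q hq).2 d
    refine ⟨u, hu, c, ?_⟩
    show Ψ' (φ c) = u • Ψ' d
    rw [← map_smul]
    exact congrArg Ψ' hc
  have hq : ∀ (q : Ideal A) [q.IsPrime], f ∈ q → q ≠ maximalIdeal A → BijAt q Ψ := by
    intro q _ hfq hqm
    let q' : Ideal A' := q.map (Ideal.Quotient.mk (Ideal.span {f}))
    have hker : Ideal.span {f} ≤ q := (Ideal.span_singleton_le_iff_mem _).2 hfq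
    haveI : q'.IsPrime := Ideal.map_isPrime_of_surjective Ideal.Quotient.mk_surjective (by rwa [Ideal.mk_ker])
    have hq' : ∀ a, Ideal.Quotient.mk (Ideal.span {f}) a ∈ q' ↔ a ∈ q := fun a => by
      rw [Ideal.mem_quotient_iff_mem hker]
    have hq'm : q' ≠ maximalIdeal A' := fun h => hqm (le_antisymm (le_maximalIdeal (Ideal.IsPrime.ne_top ‹_›))
      fun a ha => (hq' a).1 (h ▸ hmap ▸ Ideal.mem_map_of_mem _ ha))
    have hdiv : ∀ w : I → A, (∀ i, Ideal.Quotient.mk (Ideal.span {f}) (w i) = 0) → ∃ w' : I → A, w = f • w' := by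
      intro w hw
      choose w' hw' using fun i => Ideal.mem_span_singleton.1 (Ideal.Quotient.eq_zero_iff_mem.1 (hw i))
      exact ⟨w', funext fun i => hw' i⟩
    constructor
    · intro b hb
      have hK : ∀ e : LinearMap.ker Ψ, ∃ u ∉ q, ∃ e' : LinearMap.ker Ψ, u • e = f • e' := by
        rintro ⟨e, he⟩
        have h1 : χ (1 ⊗ₜ[A] e) = 0 := funext fun i => by
          rw [← hΨ, LinearMap.mem_ker.1 he, Pi.zero_apply, map_zero, Pi.zero_apply]
        obtain ⟨u', hu', h2⟩ := (hχ q' hq'm).1 _ h1
        obtain ⟨u, rfl⟩ := Ideal.Quotient.mk_surjective u'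
        have h3 : (1 : A') ⊗ₜ[A] (u • e) = 0 := by
          rw [TensorProduct.tmul_smul, ← algebraMap_smul A' u]
          exact h2
        have h4 : u • e ∈ Ideal.map (algebraMap A B) (Ideal.span {f}) := by
          have h5 := congrArg (TensorProduct.quotTensorEquivQuotSMul B (Ideal.span {f})) h3
          rw [map_zero, show (1 : A') = Ideal.Quotient.mk (Ideal.span {f}) 1 from (map_one _).symm,
            TensorProduct.quotTensorEquivQuotSMul_mk_tmul, one_smul, Submodule.Quotient.mk_eq_zero,
            Ideal.smul_top_eq_map] at h5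
          exact h5
        rw [Ideal.map_span, Set.image_singleton, Ideal.mem_span_singleton] at h4
        obtain ⟨e', he''⟩ := h4
        have he' : f • e' = u • e := by rw [he'', Algebra.smul_def f e']
        have h6 : Ψ e' = 0 := by
          have h7 := congrArg Ψ he'
          rw [map_smul, map_smul, LinearMap.mem_ker.1 he, smul_zero] at h7
          exact (smul_eq_zero.1 h7).resolve_left hf0
        exact ⟨u, fun hu => hu' ((hq' u).2 hu), ⟨e', h6⟩, Subtype.ext he'.symm⟩
      obtain ⟨u, hu, h1⟩ := killed_of_divisible (M := LinearMap.ker Ψ) q hfq hK ⟨b, hb⟩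
      exact ⟨u, hu, congrArg Subtype.val h1⟩
    · have hE : ∀ e : (I → A) ⧸ LinearMap.range Ψ, ∃ u ∉ q, ∃ e', u • e = f • e' := by
        intro e
        obtain ⟨v, rfl⟩ := Submodule.Quotient.mk_surjective _ e
        obtain ⟨u', hu', c, hc⟩ := (hχ q' hq'm).2 fun i => Ideal.Quotient.mk (Ideal.span {f}) (v i)
        obtain ⟨u, rfl⟩ := Ideal.Quotient.mk_surjective u'
        obtain ⟨b, rfl⟩ := TensorProduct.mk_surjective A B A' Ideal.Quotient.mk_surjective c
        obtain ⟨w, hw⟩ := hdiv (u • v - Ψ b) fun i => by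
          rw [Pi.sub_apply, Pi.smul_apply, smul_eq_mul, map_sub, map_mul, hΨ, sub_eq_zero]
          exact (congrFun hc i).symm
        refine ⟨u, fun hu => hu' ((hq' u).2 hu), Submodule.Quotient.mk w, ?_⟩
        rw [← Submodule.Quotient.mk_smul, ← Submodule.Quotient.mk_smul, Submodule.Quotient.eq, ← hw,
          sub_sub_cancel]
        exact LinearMap.mem_range_self Ψ b
      intro v
      obtain ⟨u, hu, h1⟩ := killed_of_divisible q hfq hE (Submodule.Quotient.mk v)
      rw [← Submodule.Quotient.mk_smul, Submodule.Quotient.mk_eq_zero] at h1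
      obtain ⟨b, hb⟩ := h1
      exact ⟨u, hu, b, hb⟩
  have hp1 : ∀ (p : Ideal A) [p.IsPrime], p.height ≤ 1 → BijAt p Ψ := by
    intro p _ hp
    obtain ⟨q, _, hpq, hfq, hqm⟩ := exists_prime_above hht hfm p hp
    exact ⟨fun b hb => let ⟨u, hu, h⟩ := (hq q hfq hqm).1 b hb; ⟨u, fun hup => hu (hpq hup), h⟩,
      fun v => let ⟨u, hu, h⟩ := (hq q hfq hqm).2 v; ⟨u, fun hup => hu (hpq hup), h⟩⟩
  have hinj : Function.Injective Ψ := (injective_iff_map_eq_zero Ψ).2 fun b hb => by
    obtain ⟨u, hu, h1⟩ := (hp1 ⊥ (by simp [Ideal.height_bot])).1 b hb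
    refine (Module.bijective_dual_eval A B).1 (LinearMap.ext fun χ' => ?_)
    have h2 := congrArg χ' h1
    rw [map_smul, map_zero, smul_eq_mul] at h2
    rw [map_zero, LinearMap.zero_apply]
    exact (mul_eq_zero.1 h2).resolve_left hu
  have hsurj : Function.Surjective Ψ := by
    intro v
    obtain ⟨u, hu, b, hb⟩ := (hp1 ⊥ (by simp [Ideal.height_bot])).2 v
    have hu0 : u ≠ 0 := hu
    have hdvd : ∀ χ' : Module.Dual A B, u ∣ χ' b := fun χ' => dvd_of_forall_height_le_one hu0 _ fun p _ hp => by
      obtain ⟨t, ht, b', hb'⟩ := (hp1 p hp).2 v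
      refine ⟨t, ht, χ' b', ?_⟩
      have h1 : t • b = u • b' := hinj (by rw [map_smul, map_smul, hb, hb', smul_comm])
      simpa [smul_eq_mul] using congrArg χ' h1
    choose c hc using hdvd
    let ξ : Module.Dual A (Module.Dual A B) :=
      { toFun := c
        map_add' := fun s t => mul_left_cancel₀ hu0 (by rw [mul_add, ← hc, ← hc, ← hc, LinearMap.add_apply])
        map_smul' := fun a s => mul_left_cancel₀ hu0 (by
          rw [RingHom.id_apply, smul_eq_mul, mul_left_comm, ← hc, ← hc, LinearMap.smul_apply, smul_eq_mul]) }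
    obtain ⟨b'', hb''⟩ := (Module.bijective_dual_eval A B).2 ξ
    have h1 : u • b'' = b := (Module.bijective_dual_eval A B).1 (LinearMap.ext fun χ' => by
      rw [map_smul, hb'', LinearMap.smul_apply, Module.Dual.eval_apply, hc χ']
      rfl)
    exact ⟨b'', smul_right_injective (I → A) hu0 (show u • Ψ b'' = u • v by rw [← map_smul, h1, hb])⟩
  exact Module.Free.of_equiv (LinearEquiv.ofBijective Ψ ⟨hinj, hsurj⟩).symm

theorem purity_aux : ∀ (d : ℕ) (A : Type u) [CommRing A] [IsRegularLocalRing A], (maximalIdeal A).spanFinrank = d →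
    ∀ (B : Type u) [CommRing B] [Algebra A B] [Module.Finite A B] [Module.IsReflexive A B],
      (∀ (p : Ideal A) [p.IsPrime], p.height ≤ 1 → EtAt p B) → Algebra.Etale A B := by
  intro d
  induction d using Nat.strong_induction_on with
  | _ d ihd =>
    intro A _ _ hd B _ _ _ _ hB
    haveI : IsDomain A := CommAlgDim.isDomain_of_isRegularLocalRing A
    suffices hfree : Module.Free A B from etale_of_free hB
    by_cases hd2 : d ≤ 2
    · exact free_of_reflexive_dim_le_two A (hd ▸ hd2) B
    have hoff : ∀ (p : Ideal A) [p.IsPrime], p ≠ maximalIdeal A → EtAt p B := by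
      intro p _ hp
      haveI := CommAlgDim.isRegularLocalRing_localization A p
      haveI : IsDomain (Localization.AtPrime p) := CommAlgDim.isDomain_of_isRegularLocalRing _
      haveI := ReflexLib.isReflexive_baseChange (A := A) (M := B) (Localization.AtPrime p)
      have hlt : (maximalIdeal (Localization.AtPrime p)).spanFinrank < d := by
        have h1 := (isRegularLocalRing_iff (Localization.AtPrime p)).1 inferInstance
        have h2 := (isRegularLocalRing_iff A).1 inferInstance
        rw [IsLocalization.AtPrime.ringKrullDim_eq_height p (Localization.AtPrime p)] at h1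
        rw [← maximalIdeal_height_eq_ringKrullDim, hd] at h2
        have hl := Ideal.height_strict_mono_of_isPrime
          (lt_of_le_of_ne (le_maximalIdeal (Ideal.IsPrime.ne_top ‹_›)) hp)
        have h3 : ((maximalIdeal (Localization.AtPrime p)).spanFinrank : WithBot ℕ∞) < (d : WithBot ℕ∞) := by
          rw [h1, h2]; exact_mod_cast hl
        exact_mod_cast h3
      exact ihd _ hlt (Localization.AtPrime p) rfl (Localization.AtPrime p ⊗[A] B) fun P _ hP =>
        (hB _ (by rw [IsLocalization.height_comap p.primeCompl]; exact hP)).baseChange P rfl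
    obtain ⟨R, _, _, _, hc, hk, hff, hmR, hdR⟩ := exists_closed_extension A
    haveI := hff
    haveI : IsDomain R := CommAlgDim.isDomain_of_isRegularLocalRing R
    haveI := ReflexLib.isReflexive_baseChange (A := A) (M := B) R
    have hext : ∀ (A' : Type u) [CommRing A'] [IsRegularLocalRing A'], (maximalIdeal A').spanFinrank = d - 1 → Ext A' := by
      intro A' _ _ hd' C _ _ _ hC
      haveI : IsDomain A' := CommAlgDim.isDomain_of_isRegularLocalRing A'
      haveI : IsIntegrallyClosed A' := NormalLib.isIntegrallyClosed_of_isRegularLocalRing A'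
      haveI := ufd_of_regular A'
      have hdim : (2 : WithBot ℕ∞) ≤ ringKrullDim A' := by
        rw [← (isRegularLocalRing_iff A').1 inferInstance, hd']
        exact_mod_cast (show 2 ≤ d - 1 by omega)
      obtain ⟨D, _, _, φ, _, _, hφ⟩ := exists_hull hdim hC
      refine ⟨D, inferInstance, inferInstance, φ, inferInstance, ?_, hφ⟩
      exact ihd (d - 1) (by omega) A' hd' D fun p _ hp =>
        have hne := ne_maximal_of_height_le_one hdim p hp
        (hC p hne).of_bijAt φ (hφ p hne)
    haveI : Module.Free R (R ⊗[A] B) := by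
      refine free_of_complete (d := d - 1) (by omega) (by omega) hext (R ⊗[A] B) fun q _ hq => ?_
      refine (hoff _ fun h => hq (le_antisymm (le_maximalIdeal (Ideal.IsPrime.ne_top ‹_›)) ?_)).baseChange q rfl
      rw [← hmR, ← h]
      exact Ideal.map_comap_le
    haveI : Module.Flat A B := Module.Flat.of_flat_tensorProduct A B R
    exact Module.free_of_flat_of_isLocalRing

/-- **Zariski–Nagata purity**: a reflexive finite algebra over a regular local ring, étale in height at
most one, is étale. -/
theorem etale_of_etAt_height_le_one [IsRegularLocalRing A] (B : Type u) [CommRing B] [Algebra A B]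
    [Module.Finite A B] [Module.IsReflexive A B]
    (hB : ∀ (p : Ideal A) [p.IsPrime], p.height ≤ 1 → EtAt p B) : Algebra.Etale A B :=
  purity_aux _ A rfl B hB

/-- A finite algebra étale off the closed point of a regular local ring of dimension at least two extends. -/
theorem ext_of_regular [IsRegularLocalRing A] (hdim : (2 : WithBot ℕ∞) ≤ ringKrullDim A) : Ext A := by
  intro C _ _ _ hC
  haveI : IsDomain A := CommAlgDim.isDomain_of_isRegularLocalRing A
  haveI : IsIntegrallyClosed A := NormalLib.isIntegrallyClosed_of_isRegularLocalRing A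
  haveI := ufd_of_regular A
  obtain ⟨D, _, _, φ, _, _, hφ⟩ := exists_hull hdim hC
  refine ⟨D, inferInstance, inferInstance, φ, inferInstance, ?_, hφ⟩
  exact etale_of_etAt_height_le_one D fun p _ hp =>
    have hne := ne_maximal_of_height_le_one hdim p hp
    (hC p hne).of_bijAt φ (hφ p hne)

end PurityLib
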