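import Groth.Agent.PurityLib.Main

/-!
# Sections of a finite étale algebra off codimension two
-/

set_option autoImplicit false
set_option linter.style.haveILetI false
set_option linter.unusedSectionVars false

universe u

open scoped TensorProduct
open IsLocalRing

namespace PurityLib

variable {A : Type u} [CommRing A] [IsDomain A] [IsNoetherianRing A]

/-- Divisibility in a regular domain is detected in height at most one. -/
theorem dvd_of_regular (hreg : ∀ (m : Ideal A) [m.IsPrime], IsRegularLocalRing (Localization.AtPrime m))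
    {u a : A} (hu : u ≠ 0) (h : ∀ (p : Ideal A) [p.IsPrime], p.height ≤ 1 → ∃ t ∉ p, u ∣ t * a) : u ∣ a := by
  let I : Ideal A := Submodule.comap (LinearMap.mulRight A a) (Ideal.span {u})
  have hI : ∀ r, r ∈ I ↔ u ∣ r * a := fun r => Ideal.mem_span_singleton
  by_contra hua
  obtain ⟨m, hm, hle⟩ := Ideal.exists_le_maximal I fun htop => hua (by
    have h1 : (1 : A) ∈ I := htop ▸ Submodule.mem_top
    simpa [hI] using h1)
  let Am := Localization.AtPrime m
  haveI : IsRegularLocalRing Am := hreg m
  haveI : IsDomain Am := CommAlgDim.isDomain_of_isRegularLocalRing Am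
  haveI := ufd_of_regular Am
  have hu' : algebraMap A Am u ≠ 0 := fun h0 => hu
    ((IsLocalization.to_map_eq_zero_iff Am m.primeCompl_le_nonZeroDivisors).1 h0)
  obtain ⟨c, hc⟩ := dvd_of_forall_height_le_one hu' (algebraMap A Am a) fun P _ hP => by
    obtain ⟨t, ht, hd⟩ := h (P.comap (algebraMap A Am)) (by
      rw [IsLocalization.height_comap m.primeCompl]; exact hP)
    exact ⟨algebraMap A Am t, ht, by rw [← map_mul]; exact map_dvd _ hd⟩
  obtain ⟨⟨c', s⟩, hcs⟩ := IsLocalization.surj m.primeCompl c
  have h2 : algebraMap A Am ((s : A) * a) = algebraMap A Am (u * c') := by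
    rw [map_mul, map_mul, hc, ← hcs]; ring
  obtain ⟨w, hw⟩ := IsLocalization.exists_of_eq (M := m.primeCompl) h2
  exact (m.primeCompl.mul_mem w.2 s.2 : (w : A) * s ∈ m.primeCompl)
    (hle ((hI _).2 ⟨w * c', by linear_combination hw⟩))

variable {G : Type u} [CommRing G] [Algebra A G] {ι : Type} [Finite ι] (a : ι → A)

/-- Global sections of a finite étale cover of the complement of a codimension two set. -/
theorem finite_etale_sections (hreg : ∀ (m : Ideal A) [m.IsPrime], IsRegularLocalRing (Localization.AtPrime m))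
    (hU : ∀ (p : Ideal A) [p.IsPrime], p.height ≤ 1 → ∃ i, a i ∉ p)
    (hfin : ∀ i, Module.Finite (Localization.Away (a i)) (Localization.Away (a i) ⊗[A] G))
    (het : ∀ i, Algebra.Etale (Localization.Away (a i)) (Localization.Away (a i) ⊗[A] G))
    (hzero : ∀ g : G, (∀ i, ∃ n : ℕ, a i ^ n • g = 0) → g = 0)
    (hglue : ∀ (n : ι → ℕ) (r : ι → G), (∀ i j, a j ^ n j • r i = a i ^ n i • r j) →
      ∃ s, ∀ i, a i ^ n i • s = r i) :
    Module.Finite A G ∧ Algebra.Etale A G := by
  classical
  have hdom : ∀ (p : Ideal A) [p.IsPrime], IsDomain (Localization.AtPrime p) := fun p _ =>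
    IsLocalization.isDomain_localization p.primeCompl_le_nonZeroDivisors
  -- torsion-free
  have hloc : ∀ i (g : G) (r : A), r ≠ 0 → r • g = 0 → ∃ n : ℕ, a i ^ n • g = 0 := by
    intro i g r hr hrg
    rcases eq_or_ne (a i) 0 with h0 | h0
    · exact ⟨1, by rw [h0, pow_one, zero_smul]⟩
    haveI := het i
    haveI : IsDomain (Localization.Away (a i)) :=
      IsLocalization.isDomain_localization (powers_le_nonZeroDivisors_of_noZeroDivisors h0)
    have h1 : algebraMap A (Localization.Away (a i)) r • ((1 : Localization.Away (a i)) ⊗ₜ[A] g) = 0 := by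
      rw [algebraMap_smul, ← TensorProduct.tmul_smul, hrg, TensorProduct.tmul_zero]
    have hreg' : IsRegular (algebraMap A (Localization.Away (a i)) r) := IsRegular.of_ne_zero fun h =>
      hr ((IsLocalization.to_map_eq_zero_iff _ (powers_le_nonZeroDivisors_of_noZeroDivisors h0)).1 h)
    have h2 := (Module.Flat.isSMulRegular_of_isRegular (M := Localization.Away (a i) ⊗[A] G) hreg') (show _ = algebraMap A (Localization.Away (a i)) r • (0 : Localization.Away (a i) ⊗[A] G) by
        rw [smul_zero]; exact h1)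
    obtain ⟨⟨w, n, rfl⟩, hn⟩ := (IsLocalizedModule.eq_zero_iff (Submonoid.powers (a i))
      (TensorProduct.mk A (Localization.Away (a i)) G 1)).1 h2
    exact ⟨n, hn⟩
  have htf : ∀ (r : A) (g : G), r ≠ 0 → r • g = 0 → g = 0 := fun r g hr hrg => hzero g fun i => hloc i g r hr hrg
  haveI : Module.IsTorsionFree A G := ⟨fun r hr x y hxy => sub_eq_zero.1 (htf r _ hr.ne_zero (by
    rw [smul_sub]; exact sub_eq_zero.2 hxy))⟩
  have hglue' : ∀ (b : G) (c : A), c ≠ 0 → (∀ i, ∃ (n : ℕ) (r : G), a i ^ n • b = c • r) → ∃ s, b = c • s := by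
    intro b c hc h
    choose n r hr using h
    obtain ⟨s, hs⟩ := hglue n r fun i j => sub_eq_zero.1 (htf c _ hc (by
      rw [smul_sub, smul_comm c, smul_comm c, ← hr, ← hr, smul_comm, sub_self]))
    refine ⟨s, sub_eq_zero.1 (hzero _ fun i => ⟨n i, ?_⟩)⟩
    rw [smul_sub, smul_comm _ c, hs, hr, sub_self]
  -- a finite submodule exhausting the localisations
  have hgen : ∀ i, ∃ s : Finset G, ∀ g : G, ∃ n : ℕ, a i ^ n • g ∈ Submodule.span A (s : Set G) := by
    intro i
    haveI := hfin i
    let Ai := Localization.Away (a i)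
    let ι' := TensorProduct.mk A Ai G 1
    obtain ⟨S, hS⟩ := Module.Finite.fg_top (R := Ai) (M := Ai ⊗[A] G)
    have hsur : ∀ z : Ai ⊗[A] G, ∃ (g : G) (k : ℕ), a i ^ k • z = ι' g := fun z => by
      obtain ⟨⟨g, w, k, rfl⟩, hk⟩ := IsLocalizedModule.surj (Submonoid.powers (a i)) ι' z
      exact ⟨g, k, hk⟩
    choose g₁ k₁ h₁ using hsur
    refine ⟨S.image g₁, fun g => ?_⟩
    let T := Submodule.span A ((S.image g₁ : Finset G) : Set G)
    have key : ∀ z ∈ Submodule.span Ai (S : Set (Ai ⊗[A] G)), ∃ (k : ℕ), ∃ c ∈ T, a i ^ k • z = ι' c := by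
      intro z hz
      induction hz using Submodule.span_induction with
      | mem z hz =>
        exact ⟨k₁ z, g₁ z, Submodule.subset_span (Finset.mem_coe.2 (Finset.mem_image_of_mem g₁ hz)), h₁ z⟩
      | zero => exact ⟨0, 0, T.zero_mem, by rw [smul_zero, map_zero]⟩
      | add z z' _ _ hz hz' =>
        obtain ⟨k, c, hc, e⟩ := hz
        obtain ⟨k', c', hc', e'⟩ := hz'
        refine ⟨k + k', a i ^ k' • c + a i ^ k • c', T.add_mem (T.smul_mem _ hc) (T.smul_mem _ hc'), ?_⟩
        rw [map_add, map_smul, map_smul, ← e, ← e', smul_add, ← mul_smul, ← mul_smul, pow_add, mul_comm]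
      | smul r z _ hz =>
        obtain ⟨k, c, hc, e⟩ := hz
        obtain ⟨⟨x, w, j, rfl⟩, hr⟩ := IsLocalization.surj (Submonoid.powers (a i)) r
        refine ⟨j + k, x • c, T.smul_mem _ hc, ?_⟩
        have hr' : r * algebraMap A Ai (a i ^ j) = algebraMap A Ai x := hr
        rw [map_smul, ← e, ← algebraMap_smul Ai (a i ^ (j + k)) (r • z), ← algebraMap_smul Ai (a i ^ k) z,
          ← algebraMap_smul Ai x, ← hr', smul_smul, smul_smul, pow_add, map_mul]
        congr 1
        ring
    obtain ⟨k, c, hc, e⟩ := key (ι' g) (by rw [hS]; trivial)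
    rw [← map_smul] at e
    obtain ⟨⟨w, l, rfl⟩, hl⟩ := IsLocalizedModule.exists_of_eq (S := Submonoid.powers (a i)) (f := ι') e
    refine ⟨l + k, ?_⟩
    rw [pow_add, mul_smul]
    rw [show a i ^ l • a i ^ k • g = a i ^ l • c from hl]
    exact T.smul_mem _ hc
  choose s hs using hgen
  haveI := Fintype.ofFinite ι
  let C : Submodule A G := Submodule.span A ((Finset.univ.biUnion s : Finset G) : Set G)
  haveI : Module.Finite A C := Module.Finite.span_of_finite A (Finset.finite_toSet _)
  have hC : ∀ i (g : G), ∃ n : ℕ, a i ^ n • g ∈ C := fun i g => (hs i g).imp fun n hn =>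
    Submodule.span_mono (Finset.coe_subset.2 (Finset.subset_biUnion_of_mem s (Finset.mem_univ i))) hn
  haveI : Module.IsTorsionFree A C := ⟨fun r hr x y hxy => Subtype.ext (hr.isSMulRegular (M := G) (congrArg Subtype.val hxy))⟩
  obtain ⟨i₀, hi₀⟩ := hU ⊥ (by simp [Ideal.height_bot])
  have hi₀' : a i₀ ≠ 0 := hi₀
  choose n hn using hC i₀
  have hval : ∀ (g : G) (φ : Module.Dual A C), ∃ v, a i₀ ^ n g * v = φ ⟨_, hn g⟩ := by
    intro g φ
    obtain ⟨v, hv⟩ := dvd_of_regular hreg (pow_ne_zero _ hi₀') (a := φ ⟨_, hn g⟩) fun p _ hp => by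
      obtain ⟨i, hi⟩ := hU p hp
      obtain ⟨m, hm⟩ := hC i g
      refine ⟨a i ^ m, fun h => hi (Ideal.IsPrime.mem_of_pow_mem ‹_› _ h), φ ⟨_, hm⟩, ?_⟩
      rw [← smul_eq_mul, ← smul_eq_mul, ← map_smul, ← map_smul]
      exact congrArg φ (Subtype.ext (smul_comm _ _ _))
    exact ⟨v, hv.symm⟩
  choose v hv using hval
  have hpow : ∀ g, a i₀ ^ n g ≠ 0 := fun g => pow_ne_zero _ hi₀'
  have hspec : ∀ (g : G) (φ : Module.Dual A C) (r : A) (hr : r • g ∈ C), r * v g φ = φ ⟨_, hr⟩ := by
    intro g φ r hr
    apply mul_left_cancel₀ (hpow g)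
    rw [mul_left_comm, hv, ← smul_eq_mul, ← smul_eq_mul, ← map_smul, ← map_smul]
    exact congrArg φ (Subtype.ext (smul_comm _ _ _))
  let e : G →ₗ[A] Module.Dual A (Module.Dual A C) :=
    { toFun := fun g =>
        { toFun := v g
          map_add' := fun φ ψ => mul_left_cancel₀ (hpow g) (by rw [mul_add, hv, hv, hv, LinearMap.add_apply])
          map_smul' := fun r φ => mul_left_cancel₀ (hpow g) (by
            rw [RingHom.id_apply, smul_eq_mul, mul_left_comm, hv, hv, LinearMap.smul_apply, smul_eq_mul]) }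
      map_add' := fun g h => LinearMap.ext fun φ => by
        show v (g + h) φ = v g φ + v h φ
        have hg : (a i₀ ^ n g * a i₀ ^ n h) • g ∈ C := by rw [mul_comm, mul_smul]; exact C.smul_mem _ (hn g)
        have hh : (a i₀ ^ n g * a i₀ ^ n h) • h ∈ C := by rw [mul_smul]; exact C.smul_mem _ (hn h)
        have hgh : (a i₀ ^ n g * a i₀ ^ n h) • (g + h) ∈ C := by rw [smul_add]; exact C.add_mem hg hh
        apply mul_left_cancel₀ (mul_ne_zero (hpow g) (hpow h))
        rw [mul_add, hspec _ φ _ hgh, hspec _ φ _ hg, hspec _ φ _ hh, ← map_add]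
        exact congrArg φ (Subtype.ext (smul_add _ _ _))
      map_smul' := fun r g => LinearMap.ext fun φ => by
        show v (r • g) φ = r * v g φ
        have hrg : a i₀ ^ n g • (r • g) ∈ C := by rw [smul_comm]; exact C.smul_mem _ (hn g)
        apply mul_left_cancel₀ (hpow g)
        rw [hspec _ φ _ hrg, mul_left_comm, hv, ← smul_eq_mul, ← map_smul]
        exact congrArg φ (Subtype.ext (smul_comm _ _ _)) }
  have heC : ∀ (c : C) (φ : Module.Dual A C), e (c : G) φ = φ c := fun c φ => by
    have := hspec (c : G) φ 1 (by rw [one_smul]; exact c.2)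
    rw [one_mul] at this
    exact this.trans (congrArg φ (Subtype.ext (one_smul A (c : G))))
  have hbij : Function.Bijective e := by
    refine ⟨(injective_iff_map_eq_zero e).2 fun g hg => ?_, fun ξ => ?_⟩
    · have h1 : (⟨_, hn g⟩ : C) = 0 := ReflexLib.eval_injective (A := A) C (by
        refine LinearMap.ext fun φ => ?_
        rw [Module.Dual.eval_apply, ← hv g φ, show v g φ = 0 from LinearMap.congr_fun hg φ, mul_zero,
          map_zero, LinearMap.zero_apply])
      exact htf _ g (hpow g) (congrArg Subtype.val h1)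
    · obtain ⟨c₀, hc₀, b, hb⟩ := ReflexLib.exists_smul_eq_eval ξ
      obtain ⟨s', hs'⟩ := hglue' (b : G) c₀ hc₀ fun i => by
        haveI := het i
        haveI := hfin i
        let Ai := Localization.Away (a i)
        let jC : Ai ⊗[A] C →ₗ[Ai] Ai ⊗[A] G := LinearMap.baseChange Ai C.subtype
        have hj : Function.Bijective jC := (ReflexLib.bijective_iff_of_comm (Submonoid.powers (a i))
          (TensorProduct.mk A Ai C 1) (TensorProduct.mk A Ai G 1) C.subtype (jC.restrictScalars A)
          fun x => by simp [jC]).2 ⟨fun x hx => ⟨1, Submonoid.one_mem _, by rw [one_smul]; exact Subtype.ext hx⟩,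
            fun g => by
              obtain ⟨m, hm⟩ := hC i g
              exact ⟨a i ^ m, ⟨m, rfl⟩, ⟨_, hm⟩, rfl⟩⟩
        haveI : Module.FinitePresentation Ai (Ai ⊗[A] G) := Module.finitePresentation_of_finite _ _
        haveI : Module.Projective Ai (Ai ⊗[A] G) := Module.Flat.projective_of_finitePresentation
        haveI : Module.Finite Ai (Ai ⊗[A] C) := inferInstance
        haveI : Module.IsReflexive Ai (Ai ⊗[A] C) := Module.equiv (LinearEquiv.ofBijective jC hj).symm
        obtain ⟨-, h2⟩ := (ReflexLib.isReflexive_iff_reflOn (Submonoid.powers (a i)) Ai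
          (TensorProduct.mk A Ai C 1)).1 inferInstance
        obtain ⟨w, ⟨m, rfl⟩, c, hc⟩ := h2 ξ
        refine ⟨m, (c : G), ?_⟩
        have h3 : a i ^ m • b = c₀ • c := ReflexLib.eval_injective (A := A) C (by
          rw [map_smul, map_smul, hb, hc, smul_comm])
        exact congrArg Subtype.val h3
      refine ⟨s', LinearMap.ext fun φ => ?_⟩
      apply mul_left_cancel₀ hc₀
      have h1 : e (c₀ • s') φ = φ b := by rw [← hs']; exact heC b φ
      rw [map_smul, LinearMap.smul_apply, smul_eq_mul] at h1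
      rw [h1, ← Module.Dual.eval_apply A C b φ, hb]
      rfl
  let E := LinearEquiv.ofBijective e hbij
  haveI : Module.Finite A G := Module.Finite.equiv E.symm
  haveI : Module.IsReflexive A (Module.Dual A (Module.Dual A C)) := ReflexLib.isReflexive_dual
  haveI : Module.IsReflexive A G := Module.equiv E.symm
  refine ⟨inferInstance, etale_of_forall fun p _ => ?_⟩
  haveI := hreg p
  haveI := hdom p
  haveI := ReflexLib.isReflexive_baseChange (A := A) (M := G) (Localization.AtPrime p)
  refine etale_of_etAt_height_le_one (A := Localization.AtPrime p) (Localization.AtPrime p ⊗[A] G) fun P _ hP => ?_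
  have hP' : (P.comap (algebraMap A (Localization.AtPrime p))).height ≤ 1 := by
    rw [IsLocalization.height_comap p.primeCompl]; exact hP
  refine EtAt.baseChange P rfl ?_
  obtain ⟨i, hi⟩ := hU _ hP'
  let q := P.comap (algebraMap A (Localization.AtPrime p))
  haveI := het i
  let φi : Localization.Away (a i) →+* Localization.AtPrime q :=
    IsLocalization.Away.lift (a i) (g := algebraMap A (Localization.AtPrime q))
      (IsLocalization.map_units (Localization.AtPrime q) (⟨a i, hi⟩ : q.primeCompl))
  letI := φi.toAlgebra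
  haveI : IsScalarTower A (Localization.Away (a i)) (Localization.AtPrime q) := IsScalarTower.of_algebraMap_eq fun x => by
    rw [RingHom.algebraMap_toAlgebra]
    exact (IsLocalization.Away.lift_eq (a i) _ x).symm
  exact Algebra.Etale.of_equiv (Algebra.TensorProduct.cancelBaseChange A (Localization.Away (a i))
    (Localization.AtPrime q) (Localization.AtPrime q) G)

end PurityLib
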